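import Groth.Agent.L03.Euler.Poly
import Groth.Prelude.Def_ShStab
import Mathlib.Algebra.Polynomial.Roots
import Mathlib.Algebra.Polynomial.Taylor

/-!
# Hilbert polynomials with respect to an invertible module
-/

universe u

open CategoryTheory CategoryTheory.Limits AlgebraicGeometry Polynomial Groth.L16

namespace Groth.L03.Euler

theorem eq_of_eventually_eval_eq {P Q : ℚ[X]} (N : ℕ)
    (h : ∀ m : ℕ, N ≤ m → P.eval (m : ℚ) = Q.eval (m : ℚ)) : P = Q :=
  Polynomial.eq_of_infinite_eval_eq P Q <| ((Set.Ici_infinite N).image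
    Nat.cast_injective.injOn).mono (by rintro _ ⟨m, hm, rfl⟩; exact h m hm)

/-- Top coefficient from the difference equation. -/
theorem coeff_taylor_sub {P : ℚ[X]} {d : ℕ} (h : P.natDegree ≤ d + 1) (c : ℚ) :
    (taylor c P - P).coeff d = c * (d + 1) * P.coeff (d + 1) := by
  have hd : (hasseDeriv d P).natDegree < 2 :=
    lt_of_le_of_lt (natDegree_hasseDeriv_le _ _) (by omega)
  rw [coeff_sub, taylor_coeff, eval_eq_sum_range' hd]
  simp [Finset.sum_range_succ, hasseDeriv_coeff, Nat.choose_self,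
    Nat.choose_succ_self_right, add_comm 1 d]
  ring

variable {k : Type u} [Field k] {X : Scheme.{u}} [X.Over (Spec (CommRingCat.of k))] {L : X.Modules}

/-- Hilbert polynomials are unique. -/
theorem isHilbPoly_unique {E : X.Modules} {P Q : ℚ[X]} (hP : ShStab.IsHilbPoly k X L E P)
    (hQ : ShStab.IsHilbPoly k X L E Q) : P = Q :=
  eq_of_eventually_eval_eq 0 fun m _ => (hP m).symm.trans (hQ m)

theorem isHilbPoly_iso {E E' : X.Modules} (e : E ≅ E') {P : ℚ[X]}
    (hP : ShStab.IsHilbPoly k X L E P) : ShStab.IsHilbPoly k X L E' P := fun m => by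
  rw [← hP m]
  exact congrArg (Int.cast : ℤ → ℚ)
    (euler_iso (Groth.L00.Tensor.tensorIso e.symm (Iso.refl _)))

theorem euler_twist_zero (E : X.Modules) :
    Curv2.euler k X (ShStab.twist X L E 0) = Curv2.euler k X E :=
  euler_iso (Groth.L00.Tensor.tensorUnitRight E)

/-- Twisting by `L^N` shifts the Hilbert polynomial. -/
theorem isHilbPoly_twist {E : X.Modules} {P : ℚ[X]} (hP : ShStab.IsHilbPoly k X L E P) (N : ℕ) :
    ShStab.IsHilbPoly k X L (CohB1.tensorMod E (CohB1.tensorPow L N)) (taylor (N : ℚ) P) := fun m => by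
  rw [taylor_eval, show ((m : ℚ) + (N : ℚ)) = ((m + N : ℕ) : ℚ) by push_cast; ring, ← hP]
  exact congrArg (Int.cast : ℤ → ℚ) (euler_iso (Groth.L00.Tensor.tensorAssoc _ _ _ ≪≫
    Groth.L00.Tensor.tensorIso (Iso.refl E) (Groth.L00.Tensor.tensorComm _ _ ≪≫
      (Groth.L00.Tensor.tensorPowAdd L m N))))

theorem isHilbPoly_zero (hL : PicF.IsInvertible L) {E : X.Modules} (hE : IsZero E) :
    ShStab.IsHilbPoly k X L E 0 := fun m => by
  have hz : IsZero (ShStab.twist X L E m) := by
    rw [ShStab.twist, Groth.L21.Mod.isZero_iff_support_eq_empty,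
      support_tensor (Groth.L18.Ample.isInvertible_tensorPow hL m),
      ← Groth.L21.Mod.isZero_iff_support_eq_empty]
    exact hE
  simp [euler_of_isZero hz]

variable [IsProper (X ↘ Spec (CommRingCat.of k))]

/-- Hilbert polynomials exist, of degree at most the dimension of the support. -/
theorem exists_isHilbPoly (hL : PicF.IsInvertible L) {E : X.Modules} (hE : Coh.IsCoh E) {d : ℕ}
    (h : topologicalKrullDim (CohB1.support E) ≤ d) :
    ∃ P : ℚ[X], P.natDegree ≤ d ∧ ShStab.IsHilbPoly k X L E P := by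
  obtain ⟨P, hP, hP'⟩ :=
    exists_polynomial (twEuler_mem' k (L := fun _ : Fin 1 => L) (fun _ => hL) hE h)
  refine ⟨P, hP, fun m => ?_⟩
  rw [← hP' m]
  exact congrArg (Int.cast : ℤ → ℚ) (euler_iso (Groth.L00.Tensor.tensorIso (Iso.refl E)
    (Groth.L00.Tensor.tensorUnitLeft _).symm))

theorem isHilbPoly_add (hL : PicF.IsInvertible L) {S : ShortComplex X.Modules} (hS : S.ShortExact)
    (h₁ : Coh.IsCoh S.X₁) (h₂ : Coh.IsCoh S.X₂) (h₃ : Coh.IsCoh S.X₃) {P Q : ℚ[X]}
    (hP : ShStab.IsHilbPoly k X L S.X₁ P) (hQ : ShStab.IsHilbPoly k X L S.X₃ Q) :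
    ShStab.IsHilbPoly k X L S.X₂ (P + Q) := fun m => by
  haveI : IsLocallyNoetherian X := LocallyOfFiniteType.isLocallyNoetherian (X ↘ Spec (CommRingCat.of k))
  have hm := Groth.L18.Ample.isInvertible_tensorPow hL m
  have := euler_add (k := k) (shortExact_tensor hm hS) (isCoh_tensor hm h₁) (isCoh_tensor hm h₂)
    (isCoh_tensor hm h₃)
  rw [eval_add, ← hP m, ← hQ m]
  exact_mod_cast this

/-- Along a map the polynomials differ by kernel minus cokernel. -/
theorem isHilbPoly_map (hL : PicF.IsInvertible L) {A B : X.Modules} (hA : Coh.IsCoh A)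
    (hB : Coh.IsCoh B) (a : A ⟶ B) {PA PB PK PC : ℚ[X]}
    (hPA : ShStab.IsHilbPoly k X L A PA) (hPB : ShStab.IsHilbPoly k X L B PB)
    (hPK : ShStab.IsHilbPoly k X L (kernel a) PK)
    (hPC : ShStab.IsHilbPoly k X L (cokernel a) PC) : PA - PB = PK - PC := by
  haveI : IsLocallyNoetherian X := LocallyOfFiniteType.isLocallyNoetherian (X ↘ Spec (CommRingCat.of k))
  refine eq_of_eventually_eval_eq 0 fun m _ => ?_
  have hm := twEuler_map k (L := fun _ : Fin 1 => L) (fun _ => hL) hA hB a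
  have tw : ∀ (E : X.Modules), twEuler k (fun _ : Fin 1 => L) E (fun _ => m) =
      (Curv2.euler k X (ShStab.twist X L E m) : ℚ) := fun E =>
    congrArg (Int.cast : ℤ → ℚ) (euler_iso (Groth.L00.Tensor.tensorIso (Iso.refl E)
      (Groth.L00.Tensor.tensorUnitLeft _)))
  have := congrFun hm (fun _ => m)
  simp only [Pi.sub_apply, tw] at this
  rw [eval_sub, eval_sub, ← hPA m, ← hPB m, ← hPK m, ← hPC m]
  exact this

end Groth.L03.Euler
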