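import Groth.Agent.L16.Devissage
import Groth.Agent.L16.FrameIso
import Groth.Agent.L16.ProperFinite
import Groth.Agent.L00.TensorColim
import Groth.Agent.L00.TensorQCoh
import Groth.Agent.L18.Ample
import Groth.Prelude.Def_Curv2

/-!
# Twisting by invertible modules: exactness, coherence, stalks, tensor powers of a family
-/

universe u

open CategoryTheory CategoryTheory.Limits MonoidalCategory AlgebraicGeometry TopologicalSpace Opposite
open Groth.L18.Frame (rs ro rs_rs ro_ro rs_smul rs_self IsFrame)

namespace Groth.L03.Euler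

open Groth.L16

variable {X : Scheme.{u}}

/-- The stalk of a module with a frame at `x` is free of rank one. -/
theorem exists_stalk_equiv {L : X.Modules} (hL : PicF.IsInvertible L) (x : X) :
    Nonempty ((X.presheaf.stalk x) ≃ₗ[X.presheaf.stalk x] ((Groth.L00.Stk.F X x).obj L)) := by
  obtain ⟨U, e, hi, he⟩ := Groth.L18.Frame.exists_frame hL x
  let g : X.presheaf.stalk x →ₗ[X.presheaf.stalk x] L.presheaf.stalk x :=
    LinearMap.toSpanSingleton _ _ (L.presheaf.germ U x hi e)
  have hg : Function.Bijective g := by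
    refine ⟨(injective_iff_map_eq_zero g).2 fun r hr => ?_, fun v => ?_⟩
    · obtain ⟨V, hV, a, rfl⟩ := TopCat.Presheaf.exists_germ_eq (F := X.presheaf) (x := x) r
      have hW : x ∈ V ⊓ U := ⟨hV, hi⟩
      have h1 : L.presheaf.germ (V ⊓ U) x hW
          (ro (inf_le_left : V ⊓ U ≤ V) a • rs L (inf_le_right : V ⊓ U ≤ U) e) =
          L.presheaf.germ (V ⊓ U) x hW 0 := by
        rw [map_zero, Groth.L20.ModStalk.germ_smul, Groth.L20.ModStalk.germ_rs]
        exact (congrArg (· • _) (TopCat.Presheaf.germ_res_apply X.presheaf (homOfLE inf_le_left) x hW a)).trans hr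
      obtain ⟨W', hxW', i₁, i₂, h2⟩ := TopCat.Presheaf.germ_eq L.presheaf x hW hW _ _ h1
      have h3 : rs L i₁.le (ro inf_le_left a • rs L inf_le_right e) = 0 := h2.trans (map_zero _)
      rw [rs_smul, ro_ro, rs_rs] at h3
      have h4 : ro (i₁.le.trans inf_le_left) a = 0 :=
        he.inj (i₁.le.trans inf_le_right) (h3.trans (zero_smul _ _).symm)
      rw [← TopCat.Presheaf.germ_res_apply X.presheaf (homOfLE (i₁.le.trans inf_le_left)) x hxW' a]
      exact (congrArg _ h4).trans (map_zero _)
    · obtain ⟨V, hV, m, rfl⟩ := TopCat.Presheaf.exists_germ_eq (F := L.presheaf) (x := x) v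
      have hW : x ∈ V ⊓ U := ⟨hV, hi⟩
      obtain ⟨d, hd⟩ := he.exists_coeff (inf_le_right : V ⊓ U ≤ U) (rs L inf_le_left m)
      refine ⟨X.presheaf.germ _ x hW d, ?_⟩
      rw [← Groth.L20.ModStalk.germ_rs L (inf_le_left : V ⊓ U ≤ V) hW m, ← hd,
        Groth.L20.ModStalk.germ_smul, Groth.L20.ModStalk.germ_rs]
      rfl
  exact ⟨LinearEquiv.ofBijective g hg⟩

theorem isFlat_of_isInvertible {L : X.Modules} (hL : PicF.IsInvertible L) : FlatMod.IsFlat L := by
  choose U e hx he using fun x => Groth.L18.Frame.exists_frame hL x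
  exact FrameIso.isFlat_of_frames U e he fun x => ⟨x, hx x⟩

/-- Stalkwise, twisting by an invertible module does nothing. -/
theorem nonempty_stalk_tensor {L : X.Modules} (hL : PicF.IsInvertible L) (M : X.Modules) (x : X) :
    Nonempty (((Groth.L00.Stk.F X x).obj M) ≃ₗ[X.presheaf.stalk x]
      ((Groth.L00.Stk.F X x).obj (CohB1.tensorMod M L))) := by
  obtain ⟨g⟩ := exists_stalk_equiv hL x
  exact ⟨(TensorProduct.rid _ _).symm ≪≫ₗ
    TensorProduct.congr (LinearEquiv.refl _ _) g ≪≫ₗ (Groth.L00.Stk.τ x M L).toLinearEquiv⟩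

theorem len_tensor {L : X.Modules} (hL : PicF.IsInvertible L) (M : X.Modules) (x : X) :
    CohSupport.len x (CohB1.tensorMod M L) = CohSupport.len x M := by
  obtain ⟨e⟩ := nonempty_stalk_tensor hL M x
  exact e.length_eq.symm

/-- Twisting by an invertible module does not change the support. -/
theorem support_tensor {L : X.Modules} (hL : PicF.IsInvertible L) (M : X.Modules) :
    CohB1.support (CohB1.tensorMod M L) = CohB1.support M := by
  ext x
  rw [← not_iff_not, ← CohSupport.len_eq_zero_iff, ← CohSupport.len_eq_zero_iff, len_tensor hL]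

theorem isCoh_tensor [IsLocallyNoetherian X] {L M : X.Modules} (hL : PicF.IsInvertible L)
    (hM : Coh.IsCoh M) : Coh.IsCoh (CohB1.tensorMod M L) := by
  have hLc := ProperFinite.isCoh_of_isInvertible hL
  haveI : Coh.IsQCoh M := hM.1
  haveI : Coh.IsQCoh L := hLc.1
  exact ⟨Groth.L00.Tensor.isQCoh_tensorMod M L, Groth.L00.Tensor.isFT_tensorMod M L hM.2 hLc.2⟩

theorem tensorBi_obj_map (F : X.Modules) {N N' : X.Modules} (g : N ⟶ N') :
    ((DCoh.tensorBi (X := X)).obj F).map g = Groth.L00.Tensor.tensorMap (𝟙 F) g := by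
  refine congrArg (Groth.L00.Tensor.shf X).map ?_
  rw [CategoryTheory.Functor.map_id]
  exact (MonoidalCategory.id_tensorHom _ _).symm

instance (N : X.Modules) : (Groth.L00.Tensor.tensorRightF N).PreservesZeroMorphisms := by
  haveI := (Groth.L00.Tensor.preservesColimits_tensorRightF N)
  exact Functor.preservesZeroMorphisms_of_preserves_initial_object

/-- Twisting by an invertible module is exact. -/
theorem shortExact_tensor {L : X.Modules} (hL : PicF.IsInvertible L) {S : ShortComplex X.Modules}
    (hS : S.ShortExact) : (S.map (Groth.L00.Tensor.tensorRightF L)).ShortExact := by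
  refine (ShortComplex.shortExact_iff_of_iso ?_).2
    (FrameIso.shortExact_tensor_left (isFlat_of_isInvertible hL) S hS)
  refine ShortComplex.isoMk ((Groth.L00.Tensor.tensorFlipIso L).app S.X₁)
    ((Groth.L00.Tensor.tensorFlipIso L).app S.X₂) ((Groth.L00.Tensor.tensorFlipIso L).app S.X₃) ?_ ?_
  · exact (congrArg (_ ≫ ·) (tensorBi_obj_map L S.f)).trans
      ((Groth.L00.Tensor.tensorFlipIso L).hom.naturality S.f).symm
  · exact (congrArg (_ ≫ ·) (tensorBi_obj_map L S.g)).trans
      ((Groth.L00.Tensor.tensorFlipIso L).hom.naturality S.g).symm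

theorem isInvertible_tensorPows {r : ℕ} {L : Fin r → X.Modules} (hL : ∀ i, PicF.IsInvertible (L i))
    (n : Fin r → ℕ) : PicF.IsInvertible (Curv2.tensorPows (Coh.structureModule X) r L n) := by
  induction r with
  | zero => exact Groth.L18.Ample.isInvertible_structureModule X
  | succ r ih =>
    exact Groth.L18.GenLoc.isInvertible_tensor (ih (fun i => hL i.castSucc) _)
      (Groth.L18.Ample.isInvertible_tensorPow (hL _) _)

/-- A twist by a family is a twist by one invertible module. -/
theorem nonempty_tensorPows_iso (F : X.Modules) : ∀ {r : ℕ} (L : Fin r → X.Modules) (n : Fin r → ℕ),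
    Nonempty (Curv2.tensorPows F r L n ≅
      CohB1.tensorMod F (Curv2.tensorPows (Coh.structureModule X) r L n))
  | 0, L, n => ⟨(Groth.L00.Tensor.tensorUnitRight F).symm⟩
  | r + 1, L, n => by
    obtain ⟨e⟩ := nonempty_tensorPows_iso F (fun i => L i.castSucc) (fun i => n i.castSucc)
    exact ⟨Groth.L00.Tensor.tensorIso e (Iso.refl _) ≪≫ Groth.L00.Tensor.tensorAssoc _ _ _⟩

/-- Raising one exponent multiplies by the corresponding module. -/
theorem nonempty_tensorPows_succ : ∀ {r : ℕ} (L : Fin r → X.Modules) (n : Fin r → ℕ) (i : Fin r),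
    Nonempty (Curv2.tensorPows (Coh.structureModule X) r L (Function.update n i (n i + 1)) ≅
      CohB1.tensorMod (Curv2.tensorPows (Coh.structureModule X) r L n) (L i))
  | 0, _, _, i => i.elim0
  | r + 1, L, n, i => by
    induction i using Fin.lastCases with
    | last =>
      have h : (fun j : Fin r => Function.update n (Fin.last r) (n (Fin.last r) + 1) j.castSucc) =
          fun j => n j.castSucc := by
        funext j
        rw [Function.update_of_ne (Fin.castSucc_lt_last j).ne]
      simp only [Curv2.tensorPows, h, Function.update_self, CohB1.tensorPow]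
      exact ⟨(Groth.L00.Tensor.tensorAssoc _ _ _).symm⟩
    | cast i =>
      have h : (fun j : Fin r => Function.update n i.castSucc (n i.castSucc + 1) j.castSucc) =
          Function.update (fun j => n j.castSucc) i ((fun j : Fin r => n j.castSucc) i + 1) := by
        funext j
        rcases eq_or_ne j i with rfl | hj
        · simp
        · rw [Function.update_of_ne hj, Function.update_of_ne (by simpa using hj)]
      simp only [Curv2.tensorPows, h, Function.update_of_ne (Fin.castSucc_lt_last i).ne']
      obtain ⟨e⟩ := nonempty_tensorPows_succ (fun j => L j.castSucc) (fun j => n j.castSucc) i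
      exact ⟨Groth.L00.Tensor.tensorIso e (Iso.refl _) ≪≫ Groth.L00.Tensor.tensorAssoc _ _ _ ≪≫
        Groth.L00.Tensor.tensorIso (Iso.refl _) (Groth.L00.Tensor.tensorComm _ _) ≪≫
        (Groth.L00.Tensor.tensorAssoc _ _ _).symm⟩

end Groth.L03.Euler
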