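import Groth.Agent.L03.Euler.Basic
import Groth.Agent.L17.CoverVanishing

/-!
# Euler characteristic along affine morphisms; zero-dimensional positivity
-/

universe u

open CategoryTheory CategoryTheory.Limits AlgebraicGeometry TopologicalSpace Groth.L16

namespace Groth.L03.Euler

variable {k : Type u} [Field k] {X Y : Scheme.{u}} [X.Over (Spec (CommRingCat.of k))]
  [Y.Over (Spec (CommRingCat.of k))]

/-- Cohomology along an affine morphism to a separated scheme, linearly. -/
theorem exists_HH_push_linearEquiv (f : X ⟶ Y) [IsAffineHom f] [Y.IsSeparated] (M : X.Modules)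
    (hM : Coh.IsQCoh M) (hf : f ≫ (Y ↘ Spec (CommRingCat.of k)) = X ↘ Spec (CommRingCat.of k)) (p : ℕ) :
    Nonempty (Coh.HH X M p ≃ₗ[k] Coh.HH Y ((Coh.push f).obj M) p) := by
  haveI := hM
  haveI : Coh.IsQCoh ((Coh.push f).obj M) := QcqsPush.isQCoh_push M f
  let V : Y.affineOpens → Y.Opens := fun U => U.1
  have hV : ∀ (n : ℕ) (a : Fin (n + 1) → Y.affineOpens), IsAffineOpen (⨅ j, V (a j)) :=
    fun n a => IsAffineOpen.iInf fun j => (a j).2
  obtain ⟨e, he⟩ := PushCompare.exists_HH_push f M V (iSup_affineOpens_eq_top Y)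
    (fun n a q => subsingleton_of_forall_eq 0 (Groth.L17.hu_affine_eq_zero M ((hV n a).preimage f) q))
    (fun n a q => subsingleton_of_forall_eq 0 (Groth.L17.hu_affine_eq_zero _ (hV n a) q)) p
  exact ⟨{ e with
    map_smul' := fun a x => by
      have h0 : Coh.toGlobal (X ↘ Spec (CommRingCat.of k)) a =
          (show Coh.Γtop X from f.appTop (Coh.toGlobal (Y ↘ Spec (CommRingCat.of k)) a)) :=
        congrArg (fun g : X ⟶ Spec (CommRingCat.of k) => Coh.toGlobal g a) hf.symm
      exact (congrArg e (congrArg (fun c : Coh.Γtop X => c • x) h0)).trans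
        (he (Coh.toGlobal (Y ↘ Spec (CommRingCat.of k)) a) x) }⟩

/-- The Euler characteristic does not change along affine morphisms to separated schemes. -/
theorem euler_push (f : X ⟶ Y) [IsAffineHom f] [Y.IsSeparated] (M : X.Modules)
    (hM : Coh.IsQCoh M) (hf : f ≫ (Y ↘ Spec (CommRingCat.of k)) = X ↘ Spec (CommRingCat.of k)) :
    Curv2.euler k Y ((Coh.push f).obj M) = Curv2.euler k X M := by
  unfold Curv2.euler
  refine finsum_congr fun p => ?_
  obtain ⟨e⟩ := exists_HH_push_linearEquiv f M hM hf p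
  rw [e.finrank_eq]

/-- A nonempty one-point scheme proper over a field has positive `χ(O)`. -/
theorem euler_structure_pos_of_subsingleton [IsProper (X ↘ Spec (CommRingCat.of k))] [Nonempty X]
    [Subsingleton X] : 0 < Curv2.euler k X (Coh.structureModule X) := by
  haveI : IsLocallyNoetherian X := LocallyOfFiniteType.isLocallyNoetherian (X ↘ Spec (CommRingCat.of k))
  obtain ⟨x⟩ := ‹Nonempty X›
  obtain ⟨_, ⟨W, hW, rfl⟩, hxW, -⟩ :=
    X.isBasis_affineOpens.exists_subset_of_mem_open (Set.mem_univ x) isOpen_univ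
  have htop : W = ⊤ := top_le_iff.1 fun z _ => by
    show z ∈ W
    rw [Subsingleton.elim z x]
    exact hxW
  have hA : IsAffineOpen (⊤ : X.Opens) := htop ▸ hW
  haveI hq : Coh.IsQCoh (Coh.structureModule X) := CohClosedPush.isCoh_structure.1
  have hv : ∀ n, 1 ≤ n → Subsingleton (Coh.HH X (Coh.structureModule X) n) := fun n hn => by
    obtain ⟨m, rfl⟩ : ∃ m, n = m + 1 := ⟨n - 1, by omega⟩
    haveI := subsingleton_of_forall_eq 0 (Groth.L17.hu_affine_eq_zero (Coh.structureModule X) hA m)
    exact (Groth.L17.hTopEquiv (X := X.toTopCat) (Coh.toAb (Coh.structureModule X)) _).subsingleton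
  rw [euler_eq_sum hv, Finset.sum_range_one, pow_zero, one_mul, Int.natCast_pos]
  haveI := ProperFinite.finite_HH k (CohClosedPush.isCoh_structure (X := X)) 0
  haveI : Nonempty (⊤ : X.Opens) := ⟨⟨x, trivial⟩⟩
  let e := (Groth.L17.hTopEquiv (X := X.toTopCat) (Coh.toAb (Coh.structureModule X)) 0).trans
    (Groth.L17.hu₀ (X := X.toTopCat) ⊤ _)
  haveI : Nontrivial ((Coh.toAb (Coh.structureModule X)).obj.obj (Opposite.op (⊤ : X.Opens))) :=
    inferInstanceAs (Nontrivial Γ(X, ⊤))
  haveI : Nontrivial (Coh.HH X (Coh.structureModule X) 0) := e.toEquiv.nontrivial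
  exact Module.finrank_pos

end Groth.L03.Euler
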