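import Groth.Prelude.Def_CurvBase
import Groth.Agent.L16.ProperFinite
import Groth.Agent.L17.CoverVanishing
import Mathlib.LinearAlgebra.FiniteDimensional.Basic
import Mathlib.Algebra.BigOperators.Finprod

/-!
# The Euler characteristic of coherent modules on a proper scheme over a field: additivity
-/

universe u

open CategoryTheory CategoryTheory.Limits AlgebraicGeometry Groth.L16

namespace Groth.L03.Euler

section LinAlg

variable {k : Type u} [Field k]

theorem finrank_eq_add {A B C : Type u} [AddCommGroup A] [AddCommGroup B] [AddCommGroup C]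
    [Module k A] [Module k B] [Module k C] [Module.Finite k B] (f : A →ₗ[k] B) (g : B →ₗ[k] C)
    (h : Function.Exact f g) :
    Module.finrank k B =
      Module.finrank k (LinearMap.range f) + Module.finrank k (LinearMap.range g) := by
  rw [← LinearMap.finrank_range_add_finrank_ker g, LinearMap.exact_iff.1 h, add_comm]

end LinAlg

variable {k : Type u} [Field k] {X : Scheme.{u}} [X.Over (Spec (CommRingCat.of k))]

theorem finrank_HH_of_iso {M N : X.Modules} (e : M ≅ N) (i : ℕ) :
    Module.finrank k (Coh.HH X M i) = Module.finrank k (Coh.HH X N i) := by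
  refine LinearEquiv.finrank_eq (LinearEquiv.ofLinear (CohLinear.overLin k (CohLinear.hmap e.hom i))
    (CohLinear.overLin k (CohLinear.hmap e.inv i)) ?_ ?_) <;> ext x
  · exact (CohLinear.hmap_comp e.inv e.hom i x).symm.trans (by rw [e.inv_hom_id]; exact CohLinear.hmap_id i x)
  · exact (CohLinear.hmap_comp e.hom e.inv i x).symm.trans (by rw [e.hom_inv_id]; exact CohLinear.hmap_id i x)

/-- Isomorphic modules have the same Euler characteristic. -/
theorem euler_iso {M N : X.Modules} (e : M ≅ N) : Curv2.euler k X M = Curv2.euler k X N := by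
  unfold Curv2.euler
  exact finsum_congr fun i => by rw [finrank_HH_of_iso e i]

theorem subsingleton_HH_of_isZero {M : X.Modules} (h : IsZero M) (n : ℕ) :
    Subsingleton (Coh.HH X M n) :=
  subsingleton_of_forall_eq 0 fun x => by
    rw [← CohLinear.hmap_id n x, CohLinear.hmap_apply, h.eq_of_src (𝟙 M) 0]
    have := CohLinear.hMap_sum (∅ : Finset PUnit.{1}) (fun _ => CohLinear.tm (0 : M ⟶ M)) n x
    rw [Finset.sum_empty, Finset.sum_empty] at this
    rwa [CohLinear.tm, Functor.map_zero]

omit [X.Over (Spec (CommRingCat.of k))] in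
theorem finrank_eq_zero_of_subsingleton {V : Type u} [AddCommGroup V] [Module k V] [Subsingleton V] :
    Module.finrank k V = 0 :=
  Module.finrank_zero_of_subsingleton

theorem euler_of_isZero {M : X.Modules} (h : IsZero M) : Curv2.euler k X M = 0 := by
  unfold Curv2.euler
  refine finsum_eq_zero_of_forall_eq_zero fun i => ?_
  haveI := subsingleton_HH_of_isZero h i
  rw [Module.finrank_zero_of_subsingleton, Nat.cast_zero, mul_zero]

variable [IsProper (X ↘ Spec (CommRingCat.of k))]

include k in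
/-- Cohomology of quasi-coherent modules vanishes above a uniform bound. -/
theorem exists_bound :
    ∃ N : ℕ, ∀ (M : X.Modules), Coh.IsQCoh M → ∀ n, N ≤ n → Subsingleton (Coh.HH X M n) := by
  haveI : CompactSpace X := QuasiCompact.compactSpace_of_compactSpace (X ↘ Spec (CommRingCat.of k))
  haveI : X.IsSeparated := ⟨by rw [← terminal.comp_from (X ↘ Spec (CommRingCat.of k))]; infer_instance⟩
  obtain ⟨N, hN⟩ := Groth.L17.exists_bound_qcqs (X := X) ⊤ isCompact_univ
  refine ⟨N, fun M hM n hn => ?_⟩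
  haveI := hM
  haveI := subsingleton_of_forall_eq 0 (hN M n hn)
  exact (Groth.L17.hTopEquiv (X := X.toTopCat) (Coh.toAb M) n).subsingleton

theorem euler_eq_sum {M : X.Modules} {N : ℕ} (hN : ∀ n, N ≤ n → Subsingleton (Coh.HH X M n)) :
    Curv2.euler k X M =
      ∑ i ∈ Finset.range N, (-1 : ℤ) ^ i * (Module.finrank k (Coh.HH X M i) : ℤ) := by
  unfold Curv2.euler
  refine finsum_eq_sum_of_support_subset _ fun i hi => ?_
  by_contra hc
  rw [Finset.coe_range, Set.mem_Iio, not_lt] at hc
  haveI := hN i hc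
  simp [Module.finrank_zero_of_subsingleton] at hi

omit [IsProper (X ↘ Spec (CommRingCat.of k))] in
theorem injective_hmap_zero {S : ShortComplex X.Modules} (hS : S.ShortExact) :
    Function.Injective (CohLinear.hmap S.f 0) := by
  haveI := (CohLinear.abS_shortExact hS).mono_f
  intro x y hxy
  obtain ⟨g, rfl⟩ := (Abelian.Ext.mk₀_bijective _ _).2 x
  obtain ⟨g', rfl⟩ := (Abelian.Ext.mk₀_bijective _ _).2 y
  have h := hxy
  change (Abelian.Ext.mk₀ g).comp (Abelian.Ext.mk₀ (CohLinear.tm S.f)) (add_zero 0) =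
    (Abelian.Ext.mk₀ g').comp (Abelian.Ext.mk₀ (CohLinear.tm S.f)) (add_zero 0) at h
  rw [Abelian.Ext.mk₀_comp_mk₀, Abelian.Ext.mk₀_comp_mk₀] at h
  exact congrArg _ ((cancel_mono (CohLinear.abS S).f).1 ((Abelian.Ext.mk₀_bijective _ _).1 h))

/-- Additivity of the Euler characteristic on short exact sequences of coherent modules. -/
theorem euler_add {S : ShortComplex X.Modules} (hS : S.ShortExact)
    (h₁ : Coh.IsCoh S.X₁) (h₂ : Coh.IsCoh S.X₂) (h₃ : Coh.IsCoh S.X₃) :
    Curv2.euler k X S.X₂ = Curv2.euler k X S.X₁ + Curv2.euler k X S.X₃ := by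
  obtain ⟨N, hN⟩ := exists_bound (k := k) (X := X)
  have v₁ : ∀ n, N + 1 ≤ n → Subsingleton (Coh.HH X S.X₁ n) := fun n hn => hN _ h₁.1 n (by omega)
  have v₂ : ∀ n, N + 1 ≤ n → Subsingleton (Coh.HH X S.X₂ n) := fun n hn => hN _ h₂.1 n (by omega)
  have v₃ : ∀ n, N + 1 ≤ n → Subsingleton (Coh.HH X S.X₃ n) := fun n hn => hN _ h₃.1 n (by omega)
  rw [euler_eq_sum v₁, euler_eq_sum v₂, euler_eq_sum v₃]
  haveI : ∀ n, Module.Finite k (Coh.HH X S.X₁ n) := ProperFinite.finite_HH k h₁
  haveI : ∀ n, Module.Finite k (Coh.HH X S.X₂ n) := ProperFinite.finite_HH k h₂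
  haveI : ∀ n, Module.Finite k (Coh.HH X S.X₃ n) := ProperFinite.finite_HH k h₃
  let a : ℕ → ℤ := fun n => (Module.finrank k
    (LinearMap.range (CohLinear.overLin k (CohLinear.hmap S.f n))) : ℤ)
  let b : ℕ → ℤ := fun n => (Module.finrank k
    (LinearMap.range (CohLinear.overLin k (CohLinear.hmap S.g n))) : ℤ)
  let c : ℕ → ℤ := fun n => (Module.finrank k
    (LinearMap.range (CohLinear.overLin k (CohLinear.delta hS n))) : ℤ)
  let e : ∀ M : X.Modules, ℕ → ℤ := fun M n => (Module.finrank k (Coh.HH X M n) : ℤ)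
  have e10 : e S.X₁ 0 = a 0 := by
    simp only [e, a, Nat.cast_inj]
    exact (LinearMap.finrank_range_of_inj
      (f := CohLinear.overLin k (CohLinear.hmap S.f 0)) (injective_hmap_zero hS)).symm
  have e1 : ∀ n, e S.X₁ (n + 1) = c n + a (n + 1) := fun n => by
    simp only [e, a, c, ← Nat.cast_add, Nat.cast_inj]
    exact finrank_eq_add _ _ (CohLinear.exact_delta_hmap hS n)
  have e2 : ∀ n, e S.X₂ n = a n + b n := fun n => by
    simp only [e, a, b, ← Nat.cast_add, Nat.cast_inj]
    exact finrank_eq_add _ _ (CohLinear.exact_hmap_hmap hS n)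
  have e3 : ∀ n, e S.X₃ n = b n + c n := fun n => by
    simp only [e, b, c, ← Nat.cast_add, Nat.cast_inj]
    exact finrank_eq_add _ _ (CohLinear.exact_hmap_delta hS n)
  have key : ∀ n, ∑ i ∈ Finset.range (n + 1),
      (-1 : ℤ) ^ i * (e S.X₁ i + e S.X₃ i - e S.X₂ i) = (-1 : ℤ) ^ n * c n := by
    intro n
    induction n with
    | zero => simp [e10, e2, e3]
    | succ n ih =>
      rw [Finset.sum_range_succ, ih, e1, e2, e3, pow_succ]
      ring
  have hc : c N = 0 := by
    have h := e1 N
    haveI := v₁ (N + 1) le_rfl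
    simp only [e, Module.finrank_zero_of_subsingleton, Nat.cast_zero] at h
    have ha : (0 : ℤ) ≤ a (N + 1) := Nat.cast_nonneg _
    have hc0 : (0 : ℤ) ≤ c N := Nat.cast_nonneg _
    omega
  have h := key N
  rw [hc, mul_zero] at h
  simp only [mul_sub, mul_add, Finset.sum_sub_distrib, Finset.sum_add_distrib] at h
  simp only [e] at h
  linarith

end Groth.L03.Euler
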