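import Groth.Agent.L03.Euler.Twist
import Groth.Agent.L19.SupportPullback
import Mathlib.RingTheory.Nakayama

/-!
# Multiplication by a section of an invertible module on a coherent module
-/

universe u

open CategoryTheory CategoryTheory.Limits MonoidalCategory AlgebraicGeometry TopologicalSpace Opposite
open Groth.L18.Frame (rs ro rs_rs ro_ro rs_smul rs_self IsFrame)

namespace Groth.L03.Euler

open Groth.L16

variable {X : Scheme.{u}}

theorem map_mem_smul_top {R A B : Type u} [CommRing R] [AddCommGroup A] [AddCommGroup B]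
    [Module R A] [Module R B] (f : A →ₗ[R] B) (m : Ideal R) {a : A}
    (h : a ∈ m • (⊤ : Submodule R A)) : f a ∈ m • (⊤ : Submodule R B) := by
  have h1 := Submodule.mem_map_of_mem (f := f) h
  rw [Submodule.map_smul''] at h1
  exact Submodule.smul_mono le_rfl le_top h1

/-- A frame gives a basis of the stalk. -/
theorem bijective_toSpanSingleton_germ {L : X.Modules} {U : X.Opens} {e : Γ(L, U)} (he : IsFrame L U e)
    {x : X} (hi : x ∈ U) :
    Function.Bijective (LinearMap.toSpanSingleton (X.presheaf.stalk x) (L.presheaf.stalk x)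
      (L.presheaf.germ U x hi e)) := by
  refine ⟨(injective_iff_map_eq_zero _).2 fun r hr => ?_, fun v => ?_⟩
  · obtain ⟨V, hV, a, rfl⟩ := TopCat.Presheaf.exists_germ_eq (F := X.presheaf) (x := x) r
    have hW : x ∈ V ⊓ U := ⟨hV, hi⟩
    have h1 : L.presheaf.germ (V ⊓ U) x hW
        (ro (inf_le_left : V ⊓ U ≤ V) a • rs L (inf_le_right : V ⊓ U ≤ U) e) =
        L.presheaf.germ (V ⊓ U) x hW 0 := by
      rw [map_zero, Groth.L20.ModStalk.germ_smul, Groth.L20.ModStalk.germ_rs]
      exact (congrArg (· • _) (TopCat.Presheaf.germ_res_apply X.presheaf (homOfLE inf_le_left) x hW a)).trans hr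
    obtain ⟨W', hxW', i₁, i₂, h2⟩ := TopCat.Presheaf.germ_eq L.presheaf x hW hW _ _ h1
    have h3 : rs L i₁.le (ro inf_le_left a • rs L inf_le_right e) = 0 := h2.trans (map_zero _)
    rw [rs_smul, ro_ro, rs_rs] at h3
    have h4 : ro (i₁.le.trans inf_le_left) a = 0 :=
      he.inj (i₁.le.trans inf_le_right) (h3.trans (zero_smul _ _).symm)
    rw [← TopCat.Presheaf.germ_res_apply X.presheaf (homOfLE (i₁.le.trans inf_le_left)) x hxW' a]
    exact (congrArg _ h4).trans (map_zero _)
  · obtain ⟨V, hV, m, rfl⟩ := TopCat.Presheaf.exists_germ_eq (F := L.presheaf) (x := x) v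
    have hW : x ∈ V ⊓ U := ⟨hV, hi⟩
    obtain ⟨d, hd⟩ := he.exists_coeff (inf_le_right : V ⊓ U ≤ U) (rs L inf_le_left m)
    refine ⟨X.presheaf.germ _ x hW d, ?_⟩
    rw [← Groth.L20.ModStalk.germ_rs L (inf_le_left : V ⊓ U ≤ V) hW m, ← hd,
      Groth.L20.ModStalk.germ_smul, Groth.L20.ModStalk.germ_rs]
    rfl

/-- The stalk map of a section. -/
theorem stalk_section {N : X.Modules} (s : Coh.structureModule X ⟶ N) (x : X) :
    ∃ g : X.presheaf.stalk x →ₗ[X.presheaf.stalk x] (Groth.L00.Stk.F X x).obj (Coh.structureModule X),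
      Function.Bijective g ∧ ((Groth.L00.Stk.F X x).map s).hom ∘ₗ g =
        LinearMap.toSpanSingleton (X.presheaf.stalk x) ((Groth.L00.Stk.F X x).obj N)
          (show (Groth.L00.Stk.F X x).obj N from
            N.presheaf.germ ⊤ x trivial (Groth.L18.GenLoc.secOf s)) := by
  have hx : x ∈ CohB1.genLocus (Coh.structureModule X) (𝟙 _) := by
    rw [Groth.L18.Ample.genLocus_id]; trivial
  have hb := bijective_toSpanSingleton_germ (Groth.L18.GenLoc.isFrame_genLocus (𝟙 (Coh.structureModule X))) hx
  rw [Groth.L20.ModStalk.germ_rs] at hb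
  refine ⟨LinearMap.toSpanSingleton (X.presheaf.stalk x) _
    (show (Groth.L00.Stk.F X x).obj (Coh.structureModule X) from
      (Coh.structureModule X).presheaf.germ ⊤ x trivial (Groth.L18.GenLoc.secOf (𝟙 _))), hb, ?_⟩
  refine LinearMap.ext_ring ?_
  rw [LinearMap.comp_apply, LinearMap.toSpanSingleton_apply_one, LinearMap.toSpanSingleton_apply_one]
  exact DerSch.stalkFunctor_map_germ x s ⊤ trivial _

/-- Multiplication by a section: `M ⟶ M ⊗ N`. -/
noncomputable def mulSection (M : X.Modules) {N : X.Modules} (s : Coh.structureModule X ⟶ N) :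
    M ⟶ CohB1.tensorMod M N :=
  (Groth.L00.Tensor.tensorUnitRight M).inv ≫ Groth.L00.Tensor.tensorMap (𝟙 M) s

theorem stalk_mulSection (M : X.Modules) {N : X.Modules} (s : Coh.structureModule X ⟶ N) (x : X)
    (v : (Groth.L00.Stk.F X x).obj M) :
    ∃ t, (Groth.L00.Stk.F X x).map (mulSection M s) v =
      (Groth.L00.Stk.τ x M N).hom (TensorProduct.map ((Groth.L00.Stk.F X x).map (𝟙 M)).hom
        ((Groth.L00.Stk.F X x).map s).hom t) := by
  let w := (Groth.L00.Stk.F X x).map (Groth.L00.Tensor.tensorUnitRight M).inv v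
  obtain ⟨t, ht⟩ := (Groth.L00.Stk.τ x M (Coh.structureModule X)).toLinearEquiv.surjective w
  refine ⟨t, ?_⟩
  rw [mulSection, Functor.map_comp, ModuleCat.comp_apply]
  change (Groth.L00.Stk.F X x).map (Groth.L00.Tensor.tensorMap (𝟙 M) s) w = _
  rw [← ht]
  exact (ConcreteCategory.congr_hom (Groth.L00.Stk.τ_natural x (𝟙 M) s) t).symm

/-- At points of the nonvanishing locus multiplication is bijective. -/
theorem bijective_mulSection (M : X.Modules) {N : X.Modules} (s : Coh.structureModule X ⟶ N)
    {x : X} (hx : x ∈ CohB1.genLocus N s) :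
    Function.Bijective ((Groth.L00.Stk.F X x).map (mulSection M s)) := by
  have hs : Function.Bijective ((Groth.L00.Stk.F X x).map s) := by
    have hb := bijective_toSpanSingleton_germ (Groth.L18.GenLoc.isFrame_genLocus s) hx
    rw [Groth.L20.ModStalk.germ_rs] at hb
    obtain ⟨g, hg, hgs⟩ := stalk_section s x
    refine (Function.Bijective.of_comp_iff _ hg).1 ?_
    have e := congrArg DFunLike.coe hgs
    rw [LinearMap.coe_comp] at e
    exact (congrArg Function.Bijective e).mpr hb
  haveI : IsIso ((Groth.L00.Stk.F X x).map s) := (ConcreteCategory.isIso_iff_bijective _).2 hs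
  have hT : Function.Bijective (TensorProduct.map ((Groth.L00.Stk.F X x).map (𝟙 M)).hom
      ((Groth.L00.Stk.F X x).map s).hom) := by
    rw [CategoryTheory.Functor.map_id]
    exact (TensorProduct.congr (LinearEquiv.refl _ _) (LinearEquiv.ofBijective _ hs)).bijective
  haveI : IsIso ((Groth.L00.Stk.F X x).map (Groth.L00.Tensor.tensorMap (𝟙 M) s)) := by
    have h := Groth.L00.Stk.τ_natural x (𝟙 M) s
    have h' : (Groth.L00.Stk.F X x).map (Groth.L00.Tensor.tensorMap (𝟙 M) s) =
        (Groth.L00.Stk.τ x M (Coh.structureModule X)).inv ≫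
          ModuleCat.ofHom (TensorProduct.map ((Groth.L00.Stk.F X x).map (𝟙 M)).hom
            ((Groth.L00.Stk.F X x).map s).hom) ≫ (Groth.L00.Stk.τ x M N).hom :=
      (Iso.inv_hom_id_assoc _ _).symm.trans (congrArg (_ ≫ ·) h.symm)
    rw [h']
    refine (ConcreteCategory.isIso_iff_bijective _).2 ?_
    exact (Groth.L00.Stk.τ x M N).toLinearEquiv.bijective.comp
      (hT.comp (Groth.L00.Stk.τ x M (Coh.structureModule X)).toLinearEquiv.symm.bijective)
  haveI : IsIso ((Groth.L00.Stk.F X x).map (mulSection M s)) := by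
    rw [mulSection, Functor.map_comp]; infer_instance
  exact (ConcreteCategory.isIso_iff_bijective _).1 inferInstance

/-- The kernel has no stalk where multiplication is injective. -/
theorem notMem_support_kernel {A B : X.Modules} (a : A ⟶ B) {x : X}
    (h : Function.Injective ((Groth.L00.Stk.F X x).map a)) : x ∉ CohB1.support (kernel a) := by
  refine fun hs => hs ?_
  haveI : Mono ((Groth.L00.Stk.F X x).map (kernel.ι a)) := inferInstance
  have hinj := (ModuleCat.mono_iff_injective ((Groth.L00.Stk.F X x).map (kernel.ι a))).1 inferInstance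
  have h0 : ∀ v : (Groth.L00.Stk.F X x).obj (kernel a), v = 0 := fun v => hinj (by
    rw [map_zero]
    apply h
    rw [map_zero, ← ModuleCat.comp_apply, ← Functor.map_comp, kernel.condition, Functor.map_zero]
    rfl)
  exact ⟨fun p q => (h0 p).trans (h0 q).symm⟩

/-- The support of a cokernel: where the map is not surjective on stalks. -/
theorem notMem_support_cokernel_iff {A B : X.Modules} (a : A ⟶ B) {x : X} :
    x ∉ CohB1.support (cokernel a) ↔ Function.Surjective ((Groth.L00.Stk.F X x).map a) := by
  constructor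
  · intro h p
    have hsub : Subsingleton ((cokernel a).presheaf.stalk x) := not_not.1 h
    have hS : (ShortComplex.mk a (cokernel.π a) (cokernel.condition _)).Exact :=
      ShortComplex.exact_cokernel _
    exact (ShortComplex.moduleCat_exact_iff _).1 (hS.map (Groth.L00.Stk.F X x)) p
      (@Subsingleton.elim _ hsub _ _)
  · intro hsurj hs
    refine hs ?_
    have h0 : ∀ q : (Groth.L00.Stk.F X x).obj (cokernel a), q = 0 := by
      intro q
      obtain ⟨p, rfl⟩ := (ModuleCat.epi_iff_surjective ((Groth.L00.Stk.F X x).map (cokernel.π a))).1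
        inferInstance q
      obtain ⟨r, rfl⟩ := hsurj p
      rw [← ModuleCat.comp_apply, ← Functor.map_comp, cokernel.condition, Functor.map_zero]
      rfl
    exact ⟨fun p q => (h0 p).trans (h0 q).symm⟩

/-- The cokernel of multiplication is supported exactly on the zero locus. -/
theorem support_cokernel_mulSection [IsLocallyNoetherian X] {M N : X.Modules} (hM : Coh.IsCoh M)
    (hN : PicF.IsInvertible N) (s : Coh.structureModule X ⟶ N) :
    CohB1.support (cokernel (mulSection M s)) = CohB1.support M \ (CohB1.genLocus N s : Set X) := by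
  ext x
  constructor
  · intro hx
    refine ⟨?_, fun hg => (notMem_support_cokernel_iff _).2 (bijective_mulSection M s hg).2 hx⟩
    exact (support_tensor hN M).le (Groth.L21.Mod.support_epi (cokernel.π (mulSection M s)) hx)
  · rintro ⟨hxM, hxg⟩
    by_contra hx
    have hsurj := (notMem_support_cokernel_iff _).1 hx
    obtain ⟨W, e, hW, hxW, he⟩ := Groth.L18.GenLoc.exists_affine_frame hN x
    obtain ⟨a, ha⟩ := he.exists_coeff le_rfl (rs N le_top (Groth.L18.GenLoc.secOf s))
    rw [rs_self] at ha
    have ham : X.presheaf.germ W x hxW a ∈ IsLocalRing.maximalIdeal (X.presheaf.stalk x) := by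
      by_contra h
      rw [IsLocalRing.mem_maximalIdeal, mem_nonunits_iff, not_not] at h
      have : x ∈ CohB1.genLocus N s ⊓ W := by
        rw [Groth.L18.GenLoc.genLocus_inf_eq s he ha]
        exact (X.mem_basicOpen a x hxW).2 h
      exact hxg this.1
    set m := IsLocalRing.maximalIdeal (X.presheaf.stalk x)
    have hσ : ∀ v, (Groth.L00.Stk.F X x).map s v ∈
        m • (⊤ : Submodule (X.presheaf.stalk x) ((Groth.L00.Stk.F X x).obj N)) := by
      intro p
      obtain ⟨g, hg, hgs⟩ := stalk_section s x
      obtain ⟨v, rfl⟩ := hg.2 p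
      have h1 : (Groth.L00.Stk.F X x).map s (g v) = v • (show (Groth.L00.Stk.F X x).obj N from
          N.presheaf.germ ⊤ x trivial (Groth.L18.GenLoc.secOf s)) := LinearMap.congr_fun hgs v
      rw [h1]
      refine Submodule.smul_mem (m • ⊤) v ?_
      rw [← Groth.L20.ModStalk.germ_rs N (le_top : W ≤ ⊤) hxW, ← ha, Groth.L20.ModStalk.germ_smul]
      exact Submodule.smul_mem_smul ham Submodule.mem_top
    have hrange : ∀ t, TensorProduct.map ((Groth.L00.Stk.F X x).map (𝟙 M)).hom
        ((Groth.L00.Stk.F X x).map s).hom t ∈ m • (⊤ : Submodule (X.presheaf.stalk x) _) := by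
      intro t
      induction t using TensorProduct.induction_on with
      | zero => rw [map_zero]; exact Submodule.zero_mem _
      | tmul p q =>
        rw [TensorProduct.map_tmul]
        refine Submodule.smul_induction_on (p := fun n => _ ⊗ₜ n ∈ m • ⊤) (hσ q) (fun r hr n _ => ?_)
          fun n n' hn hn' => ?_
        · rw [TensorProduct.tmul_smul]
          exact Submodule.smul_mem_smul hr Submodule.mem_top
        · rw [TensorProduct.tmul_add]
          exact Submodule.add_mem _ hn hn'
      | add p q hp hq => rw [map_add]; exact Submodule.add_mem _ hp hq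
    have htop : (⊤ : Submodule (X.presheaf.stalk x) ((Groth.L00.Stk.F X x).obj (CohB1.tensorMod M N))) ≤
        m • ⊤ := by
      intro p _
      obtain ⟨v, rfl⟩ := hsurj p
      obtain ⟨t, ht⟩ := stalk_mulSection M s x v
      rw [ht]
      exact map_mem_smul_top (Groth.L00.Stk.τ x M N).hom.hom m (hrange t)
    haveI : Module.Finite (X.presheaf.stalk x) ((Groth.L00.Stk.F X x).obj (CohB1.tensorMod M N)) :=
      Groth.L19.SupportPullback.finite_stalk _ (isCoh_tensor hN hM) x
    have hbot : (⊤ : Submodule (X.presheaf.stalk x) ((Groth.L00.Stk.F X x).obj (CohB1.tensorMod M N))) = ⊥ :=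
      Submodule.eq_bot_of_le_smul_of_le_jacobson_bot m ⊤ (Module.Finite.fg_top) htop
        (IsLocalRing.maximalIdeal_le_jacobson _)
    have hmem : x ∈ CohB1.support (CohB1.tensorMod M N) := (support_tensor hN M).ge hxM
    refine hmem ⟨fun p q => ?_⟩
    have hp : ∀ p : (Groth.L00.Stk.F X x).obj (CohB1.tensorMod M N), p = 0 := fun p =>
      (Submodule.mem_bot _).1 (hbot ▸ Submodule.mem_top)
    exact (hp p).trans (hp q).symm

end Groth.L03.Euler
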