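import Groth.Agent.L03.Euler.Dim
import Groth.Agent.L18.Ample
import Groth.Agent.L22.SchemeDim
import Mathlib.RingTheory.Ideal.KrullsHeightTheorem

/-!
# Maximal points of the zero locus of a section on an irreducible closed set have dimension one less
-/

universe u

open CategoryTheory CategoryTheory.Limits AlgebraicGeometry TopologicalSpace
open Groth.L18.Frame (rs ro rs_rs rs_self IsFrame)

namespace Groth.L03.Euler

variable (k : Type u) [Field k] {X : Scheme.{u}} [X.Over (Spec (CommRingCat.of k))]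
  [LocallyOfFiniteType (X ↘ Spec (CommRingCat.of k))]

include k in
/-- Immediate specialisation to a maximal point outside the locus of a section. -/
theorem dim_closure_eq_add_one {N : X.Modules} (hN : PicF.IsInvertible N)
    (s : Coh.structureModule X ⟶ N) {y z : X} (hy : y ∈ CohB1.genLocus N s)
    (hz : z ∈ closure ({y} : Set X)) (hzs : z ∉ CohB1.genLocus N s)
    (hmax : ∀ w : X, y ⤳ w → w ∉ CohB1.genLocus N s → w ⤳ z → w = z) :
    ∃ n : ℕ, topologicalKrullDim (closure ({z} : Set X)) = (n : WithBot ℕ∞) ∧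
      topologicalKrullDim (closure ({y} : Set X)) = ((n + 1 : ℕ) : WithBot ℕ∞) := by
  haveI : IsLocallyNoetherian X := LocallyOfFiniteType.isLocallyNoetherian (X ↘ Spec (CommRingCat.of k))
  have hsp : y ⤳ z := specializes_iff_mem_closure.2 hz
  have hne : y ≠ z := fun h => hzs (h ▸ hy)
  have himm : ∀ w : X, y ⤳ w → w ⤳ z → w = y ∨ w = z := by
    intro w hyw hwz
    by_cases hws : w ∈ CohB1.genLocus N s
    swap
    · exact Or.inr (hmax w hyw hws hwz)
    obtain ⟨W, e, hW, hzW, he⟩ := Groth.L18.GenLoc.exists_affine_frame hN z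
    obtain ⟨a, ha⟩ := he.exists_coeff le_rfl (rs N le_top (Groth.L18.GenLoc.secOf s))
    rw [rs_self] at ha
    have hgen := Groth.L18.GenLoc.genLocus_inf_eq s he ha
    have hwW : w ∈ W := hwz.mem_open W.2 hzW
    have hyW : y ∈ W := hsp.mem_open W.2 hzW
    haveI : IsNoetherianRing Γ(X, W) := IsLocallyNoetherian.component_noetherian ⟨W, hW⟩
    let py : Spec Γ(X, W) := hW.primeIdealOf ⟨y, hyW⟩
    let pw : Spec Γ(X, W) := hW.primeIdealOf ⟨w, hwW⟩
    let pz : Spec Γ(X, W) := hW.primeIdealOf ⟨z, hzW⟩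
    have hpy : hW.fromSpec py = y := hW.fromSpec_primeIdealOf ⟨y, hyW⟩
    have hpw : hW.fromSpec pw = w := hW.fromSpec_primeIdealOf ⟨w, hwW⟩
    have hpz : hW.fromSpec pz = z := hW.fromSpec_primeIdealOf ⟨z, hzW⟩
    have hemb := hW.fromSpec.isOpenEmbedding
    have hle : ∀ p q : Spec Γ(X, W), hW.fromSpec p ⤳ hW.fromSpec q ↔ p.asIdeal ≤ q.asIdeal :=
      fun p q => hemb.isInducing.specializes_iff.trans (PrimeSpectrum.le_iff_specializes p q).symm
    have hmem : ∀ p : Spec Γ(X, W), hW.fromSpec p ∈ CohB1.genLocus N s ↔ a ∉ p.asIdeal := by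
      intro p
      have hpW : hW.fromSpec p ∈ W := by
        have := Set.mem_range_self (f := hW.fromSpec) p
        rwa [hW.range_fromSpec] at this
      constructor
      · intro h
        have h1 : hW.fromSpec p ∈ X.basicOpen a := hgen ▸ ⟨h, hpW⟩
        have h2 : p ∈ hW.fromSpec ⁻¹ᵁ X.basicOpen a := h1
        rwa [hW.fromSpec_preimage_basicOpen] at h2
      · intro h
        have h2 : p ∈ hW.fromSpec ⁻¹ᵁ X.basicOpen a := by rwa [hW.fromSpec_preimage_basicOpen]
        have h1 : hW.fromSpec p ∈ CohB1.genLocus N s ⊓ W := by rw [hgen]; exact h2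
        exact h1.1
    have h_yw : py.asIdeal ≤ pw.asIdeal := (hle py pw).1 (by rw [hpy, hpw]; exact hyw)
    have h_wz : pw.asIdeal ≤ pz.asIdeal := (hle pw pz).1 (by rw [hpw, hpz]; exact hwz)
    have haz : a ∈ pz.asIdeal := by
      by_contra h
      exact hzs (hpz ▸ (hmem pz).2 h)
    have haw : a ∉ pw.asIdeal := (hmem pw).1 (hpw.symm ▸ hws)
    have hmin : pz.asIdeal ∈ (py.asIdeal ⊔ Ideal.span {a}).minimalPrimes := by
      refine ⟨⟨pz.2, sup_le (h_yw.trans h_wz) ((Ideal.span_singleton_le_iff_mem _).2 haz)⟩, ?_⟩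
      rintro Q ⟨hQ, hQle⟩ hQz
      let Q' : Spec Γ(X, W) := ⟨Q, hQ⟩
      have h1 : y ⤳ hW.fromSpec Q' := hpy ▸ (hle py Q').2 (le_sup_left.trans hQle)
      have h2 : hW.fromSpec Q' ∉ CohB1.genLocus N s := fun h =>
        (hmem Q').1 h (hQle (Ideal.mem_sup_right (Ideal.mem_span_singleton_self a)))
      have h3 : hW.fromSpec Q' ⤳ z := hpz ▸ (hle Q' pz).2 hQz
      have : Q' = pz := hemb.injective ((hmax _ h1 h2 h3).trans hpz.symm)
      exact (congrArg PrimeSpectrum.asIdeal this).ge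
    have hht := Ideal.map_height_le_one_of_mem_minimalPrimes hmin
    haveI : py.asIdeal.IsPrime := py.2
    haveI : pw.asIdeal.IsPrime := pw.2
    haveI : pz.asIdeal.IsPrime := pz.2
    haveI hw' : (pw.asIdeal.map (Ideal.Quotient.mk py.asIdeal)).IsPrime :=
      Ideal.map_isPrime_of_surjective Ideal.Quotient.mk_surjective (by simpa using h_yw)
    haveI hz' : (pz.asIdeal.map (Ideal.Quotient.mk py.asIdeal)).IsPrime :=
      Ideal.map_isPrime_of_surjective Ideal.Quotient.mk_surjective (by simpa using h_yw.trans h_wz)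
    have hlt : pw.asIdeal.map (Ideal.Quotient.mk py.asIdeal) <
        pz.asIdeal.map (Ideal.Quotient.mk py.asIdeal) := by
      refine lt_of_le_of_ne (Ideal.map_mono h_wz) fun he' => haw ?_
      have h1 : Ideal.Quotient.mk py.asIdeal a ∈ pw.asIdeal.map (Ideal.Quotient.mk py.asIdeal) :=
        he' ▸ Ideal.mem_map_of_mem _ haz
      have h2 : a ∈ (pw.asIdeal.map (Ideal.Quotient.mk py.asIdeal)).comap (Ideal.Quotient.mk py.asIdeal) := h1
      rwa [Ideal.comap_map_of_surjective _ Ideal.Quotient.mk_surjective, sup_eq_left.2] at h2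
      exact (Ideal.mk_ker (I := py.asIdeal)).le.trans h_yw
    have h1 := (Ideal.height_add_one_le_of_lt_of_isPrime hlt).trans hht
    have h0 : (pw.asIdeal.map (Ideal.Quotient.mk py.asIdeal)).height = 0 :=
      nonpos_iff_eq_zero.1 ((ENat.add_le_add_iff_right (by simp)).1 (h1.trans (zero_add 1).ge))
    have h00 := Ideal.height_eq_zero_iff_eq_bot.1 h0
    rw [Ideal.map_eq_bot_iff_le_ker, Ideal.mk_ker] at h00
    left
    rw [← hpw, ← hpy]
    exact congrArg hW.fromSpec (PrimeSpectrum.ext (le_antisymm h00 h_yw))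
  obtain ⟨n, hn, hn'⟩ := Groth.L22.SchemeDim.trdeg_covBy k X hne hsp himm
  obtain ⟨m, hm, hm'⟩ := Groth.L22.SchemeDim.exists_dim_closure_eq_trdeg k X z
  obtain ⟨l, hl, hl'⟩ := Groth.L22.SchemeDim.exists_dim_closure_eq_trdeg k X y
  have e1 : m = n := by exact_mod_cast hm'.symm.trans hn
  have e2 : l = n + 1 := by exact_mod_cast hl'.symm.trans hn'
  exact ⟨n, e1 ▸ hm, e2 ▸ hl⟩

end Groth.L03.Euler
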