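import Groth.Agent.L03.Euler.Hilb
import Groth.Agent.L03.Euler.Push
import Groth.Agent.L03.Euler.Section
import Groth.Agent.L03.Euler.Drop
import Mathlib.AlgebraicGeometry.Morphisms.QuasiFinite
import Mathlib.AlgebraicGeometry.Morphisms.Proper

/-!
# The Hilbert polynomial has degree the dimension of the support, with positive top coefficient
-/

universe u

open CategoryTheory CategoryTheory.Limits AlgebraicGeometry TopologicalSpace Polynomial Groth.L16

namespace Groth.L03.Euler

/-- An affine scheme proper over a field which is irreducible is a point. -/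
theorem subsingleton_of_proper_affine (k : Type u) [Field k] (Z : Scheme.{u})
    (f : Z ⟶ Spec (CommRingCat.of k)) [IsProper f] [IsAffineHom f] [IrreducibleSpace Z] :
    Subsingleton Z := by
  haveI : IsFinite f := IsFinite.iff_isProper_and_isAffineHom.2 ⟨inferInstance, inferInstance⟩
  haveI : LocallyQuasiFinite f := inferInstance
  have hd : _root_.IsDiscrete (Set.univ : Set Z) := by
    obtain ⟨p⟩ : Nonempty ↑(Spec (CommRingCat.of k)) := inferInstance
    have : f ⁻¹' {p} = Set.univ := Set.eq_univ_of_forall fun z =>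
      @Subsingleton.elim _ (inferInstanceAs (Subsingleton (PrimeSpectrum k))) _ _
    rw [← this]
    exact f.isDiscrete_preimage_singleton p
  exact Set.subsingleton_of_univ_subsingleton
    (hd.subsingleton_of_isPreirreducible (IrreducibleSpace.isIrreducible_univ Z).isPreirreducible)

variable (k : Type u) [Field k] {X : Scheme.{u}} [X.Over (Spec (CommRingCat.of k))]
  [IsProper (X ↘ Spec (CommRingCat.of k))] (L : X.Modules)

/-- Nonnegativity and positivity of the coefficient in degree `e`. -/
def PosAt (e : ℕ) : Prop :=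
  ∀ M : X.Modules, Coh.IsCoh M → topologicalKrullDim (CohB1.support M) ≤ e →
    ∀ P : ℚ[X], ShStab.IsHilbPoly k X L M P →
      0 ≤ P.coeff e ∧ (topologicalKrullDim (CohB1.support M) = e → 0 < P.coeff e)

/-- Positivity for structure sheaves of integral closed subschemes of dimension `e`. -/
def GPosAt (e : ℕ) : Prop :=
  ∀ (Z : Scheme.{u}) (i : Z ⟶ X), IsClosedImmersion i → IsIntegral Z →
    topologicalKrullDim (Set.range i) = e → ∀ P : ℚ[X],
      ShStab.IsHilbPoly k X L ((Coh.push i).obj (Coh.structureModule Z)) P → 0 < P.coeff e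

variable {k L}

/-- Modules of support dimension `< e` do not contribute in degree `e`. -/
theorem coeff_eq_zero_of_dim_lt (hL : PicF.IsInvertible L) {K : X.Modules} (hK : Coh.IsCoh K) {e : ℕ}
    (h : topologicalKrullDim (CohB1.support K) + 1 ≤ e) {P : ℚ[X]}
    (hP : ShStab.IsHilbPoly k X L K P) : P.coeff e = 0 := by
  rcases (CohB1.support K).eq_empty_or_nonempty with h0 | h0
  · rw [isHilbPoly_unique hP (isHilbPoly_zero hL ((Groth.L21.Mod.isZero_iff_support_eq_empty K).2 h0))]
    simp
  have hd := zero_le_topologicalKrullDim h0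
  generalize ht : topologicalKrullDim (CohB1.support K) = t at h hd
  induction t using WithBot.recBotCoe with
  | bot => exact absurd hd (by simp)
  | coe t =>
    change ((t + 1 : ℕ∞) : WithBot ℕ∞) ≤ ((e : ℕ∞) : WithBot ℕ∞) at h
    rw [WithBot.coe_le_coe] at h
    obtain ⟨t, rfl⟩ : ∃ n : ℕ, t = n := (ENat.ne_top_iff_exists.1 (by
      rintro rfl; simp at h)).imp fun n hn => hn.symm
    have hte : t + 1 ≤ e := by exact_mod_cast h
    obtain ⟨Q, hQ, hQP⟩ := exists_isHilbPoly (k := k) hL hK (d := t) ht.le
    rw [isHilbPoly_unique hP hQP]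
    exact coeff_eq_zero_of_natDegree_lt (by omega)

theorem isClosed_range (Z : Scheme.{u}) (i : Z ⟶ X) [IsClosedImmersion i] :
    IsClosed (Set.range i) := i.isClosedEmbedding.isClosed_range

/-- Modules of length one at `y` supported on `closure {y}` share their top coefficient. -/
theorem coeff_eq_of_linked (hL : PicF.IsInvertible L) {y : X} {e : ℕ}
    (hy : topologicalKrullDim (closure ({y} : Set X)) ≤ e) {A B : X.Modules}
    (hA : Coh.IsCoh A) (hB : Coh.IsCoh B) (hsA : CohB1.support A ⊆ closure {y})
    (hsB : CohB1.support B ⊆ closure {y}) (hlA : CohSupport.len y A = 1)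
    (hlB : CohSupport.len y B = 1) {PA PB : ℚ[X]} (hPA : ShStab.IsHilbPoly k X L A PA)
    (hPB : ShStab.IsHilbPoly k X L B PB) : PA.coeff e = PB.coeff e := by
  haveI : IsLocallyNoetherian X := LocallyOfFiniteType.isLocallyNoetherian (X ↘ Spec (CommRingCat.of k))
  haveI : CompactSpace X := QuasiCompact.compactSpace_of_compactSpace (X ↘ Spec (CommRingCat.of k))
  haveI : IsNoetherian X := {}
  obtain ⟨H, a, b, hH, hsH, ha₁, ha₂, hb₁, hb₂⟩ := exists_linked hA hB hsA hsB hlA hlB
  haveI : Coh.IsQCoh H := hH.1
  have hka := CohKernel.isCoh_kernel_cokernel hA hH a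
  have hkb := CohKernel.isCoh_kernel_cokernel hB hH b
  have small : ∀ K : X.Modules, Coh.IsCoh K → CohB1.support K ⊆ closure {y} →
      CohSupport.len y K = 0 → topologicalKrullDim (CohB1.support K) + 1 ≤ e := by
    intro K hK hsK hK0
    refine le_trans (topologicalKrullDim_add_one_le (CohSupport.isClosed_support K hK.2)
      isIrreducible_singleton.closure hsK fun he => ?_) hy
    exact (CohSupport.len_eq_zero_iff y K).1 hK0 (he ▸ subset_closure rfl)
  have s₁ := small _ hka.1 ((Groth.L21.Mod.support_mono (kernel.ι a)).trans hsA) ha₁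
  have s₂ := small _ hka.2 ((Groth.L21.Mod.support_epi (cokernel.π a)).trans hsH) ha₂
  have s₃ := small _ hkb.1 ((Groth.L21.Mod.support_mono (kernel.ι b)).trans hsB) hb₁
  have s₄ := small _ hkb.2 ((Groth.L21.Mod.support_epi (cokernel.π b)).trans hsH) hb₂
  obtain ⟨P₁, -, hP₁⟩ := exists_isHilbPoly (k := k) hL hka.1 (d := e) ((le_add_of_nonneg_right (by simp)).trans s₁)
  obtain ⟨P₂, -, hP₂⟩ := exists_isHilbPoly (k := k) hL hka.2 (d := e) ((le_add_of_nonneg_right (by simp)).trans s₂)
  obtain ⟨P₃, -, hP₃⟩ := exists_isHilbPoly (k := k) hL hkb.1 (d := e) ((le_add_of_nonneg_right (by simp)).trans s₃)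
  obtain ⟨P₄, -, hP₄⟩ := exists_isHilbPoly (k := k) hL hkb.2 (d := e) ((le_add_of_nonneg_right (by simp)).trans s₄)
  obtain ⟨PH, -, hPH⟩ := exists_isHilbPoly (k := k) hL hH (d := e)
    ((topologicalKrullDim_set_mono hsH).trans hy)
  have e₁ := congrArg (fun p : ℚ[X] => p.coeff e) (isHilbPoly_map hL hA hH a hPA hPH hP₁ hP₂)
  have e₂ := congrArg (fun p : ℚ[X] => p.coeff e) (isHilbPoly_map hL hB hH b hPB hPH hP₃ hP₄)
  simp only [coeff_sub, coeff_eq_zero_of_dim_lt hL hka.1 s₁ hP₁, coeff_eq_zero_of_dim_lt hL hka.2 s₂ hP₂,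
    coeff_eq_zero_of_dim_lt hL hkb.1 s₃ hP₃, coeff_eq_zero_of_dim_lt hL hkb.2 s₄ hP₄, sub_zero] at e₁ e₂
  linarith

omit [IsProper (X ↘ Spec (CommRingCat.of k))] in
/-- A nonzero submodule of the structure sheaf of an integral closed subscheme lives at its generic point. -/
theorem isZero_of_mono_push {Z : Scheme.{u}} (i : Z ⟶ X) [IsIntegral Z] {M : X.Modules}
    (j : M ⟶ (Coh.push i).obj (Coh.structureModule Z)) [Mono j]
    (h : i (genericPoint Z) ∉ CohB1.support M) : IsZero M := by
  let y := i (genericPoint Z)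
  let G := (Coh.push i).obj (Coh.structureModule Z)
  let N : ModuleCat.{u} (X.presheaf.stalk y) := (Groth.L00.Stk.F X y).obj G
  let ψ : G ⟶ Groth.L00.Sky.sky y N := Groth.L00.Sky.toHom G N (𝟙 N)
  have hψinj : Function.Injective ((Groth.L00.Stk.F X y).map ψ) := by
    have e : (𝟙 N : N ⟶ N) = (Groth.L00.Stk.F X y).map ψ ≫ (Groth.L00.Sky.adj y).counit.app N :=
      (((Groth.L00.Sky.adj y).homEquiv G N).symm_apply_apply (𝟙 N)).symm.trans (Adjunction.homEquiv_counit _ _ _ _)
    intro a b hab
    exact (congr($e a)).trans ((congrArg ((Groth.L00.Sky.adj y).counit.app N) hab).trans (congr($e b)).symm)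
  haveI : Mono ψ := CohClosedPush.mono_of_injective_generic i ψ hψinj
  have hsub : Subsingleton ((Groth.L00.Stk.F X y).obj M) := not_not.1 h
  have h0 : j ≫ ψ = 0 := ((Groth.L00.Sky.adj y).homEquiv M N).symm.injective
    ((ModuleCat.isZero_of_subsingleton _).eq_of_src _ _)
  exact IsZero.of_mono_eq_zero j ((cancel_mono ψ).1 (h0.trans zero_comp.symm))

/-- Positivity at `e` for all modules follows from positivity for integral closed subschemes. -/
theorem posAt_of_gPosAt (hL : PicF.IsInvertible L) {e : ℕ} (hG : GPosAt k L e) : PosAt k L e := by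
  haveI : IsLocallyNoetherian X := LocallyOfFiniteType.isLocallyNoetherian (X ↘ Spec (CommRingCat.of k))
  haveI : CompactSpace X := QuasiCompact.compactSpace_of_compactSpace (X ↘ Spec (CommRingCat.of k))
  haveI : IsNoetherian X := {}
  intro M hM
  refine Devissage.devissage_ideals (fun M => topologicalKrullDim (CohB1.support M) ≤ e →
    ∀ P : ℚ[X], ShStab.IsHilbPoly k X L M P →
      0 ≤ P.coeff e ∧ (topologicalKrullDim (CohB1.support M) = e → 0 < P.coeff e)) ?_ ?_ ?_ ?_ hM
  · rintro A B ⟨f⟩ hA hd P hP
    have hs : CohB1.support B = CohB1.support A :=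
      (Groth.L21.Mod.support_epi f.hom).antisymm (Groth.L21.Mod.support_epi f.inv)
    rw [hs] at hd ⊢
    exact hA hd P (isHilbPoly_iso f.symm hP)
  · intro A hA _ P hP
    rw [isHilbPoly_unique hP (isHilbPoly_zero hL hA),
      (Groth.L21.Mod.isZero_iff_support_eq_empty A).1 hA, topologicalKrullDim_of_empty rfl]
    exact ⟨by simp, fun h => absurd h (WithBot.bot_ne_natCast _)⟩
  · intro S hS h₁ h₂ h₃ p₁ p₃ hd P hP
    have hu := Groth.L21.Mod.support_of_shortExact hS
    have d₁ : topologicalKrullDim (CohB1.support S.X₁) ≤ e :=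
      (topologicalKrullDim_set_mono (hu ▸ Set.subset_union_left)).trans hd
    have d₃ : topologicalKrullDim (CohB1.support S.X₃) ≤ e :=
      (topologicalKrullDim_set_mono (hu ▸ Set.subset_union_right)).trans hd
    obtain ⟨P₁, -, hP₁⟩ := exists_isHilbPoly (k := k) hL h₁ d₁
    obtain ⟨P₃, -, hP₃⟩ := exists_isHilbPoly (k := k) hL h₃ d₃
    obtain ⟨q₁, r₁⟩ := p₁ d₁ P₁ hP₁
    obtain ⟨q₃, r₃⟩ := p₃ d₃ P₃ hP₃
    rw [isHilbPoly_unique hP (isHilbPoly_add hL hS h₁ h₂ h₃ hP₁ hP₃), coeff_add]
    refine ⟨add_nonneg q₁ q₃, fun he => ?_⟩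
    obtain ⟨y, hy, hye⟩ := exists_point_dim_closure_ge (CohSupport.isClosed_support S.X₂ h₂.2) he.ge
    rw [hu] at hy
    rcases hy with hy | hy
    · have := r₁ (le_antisymm d₁ (hye.trans (topologicalKrullDim_set_mono (closure_minimal
        (Set.singleton_subset_iff.2 hy) (CohSupport.isClosed_support S.X₁ h₁.2)))))
      linarith
    · have := r₃ (le_antisymm d₃ (hye.trans (topologicalKrullDim_set_mono (closure_minimal
        (Set.singleton_subset_iff.2 hy) (CohSupport.isClosed_support S.X₃ h₃.2)))))
      linarith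
  · intro Z i hi hZ I ι hι hI hd P hP
    haveI : IsLocallyNoetherian Z := LocallyOfFiniteType.isLocallyNoetherian i
    haveI : Coh.IsQCoh I := hI
    have hO : Coh.IsCoh (Coh.structureModule Z) := CohClosedPush.isCoh_structure
    haveI : Coh.IsQCoh (Coh.structureModule Z) := hO.1
    haveI : Coh.IsQCoh (cokernel ι) := Devissage.isQCoh_cokernel ι
    have hIc : Coh.IsCoh I := CohSupport.isCoh_of_iso
      (((ShortComplex.ShortExact.mk (ShortComplex.exact_cokernel ι) :
          (ShortComplex.mk ι (cokernel.π ι) (cokernel.condition _)).ShortExact).fIsKernel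
        ).conePointUniqueUpToIso (kernelIsKernel _)).symm
      (CohSupport.isCoh_kernel hO (cokernel.π ι))
    have hMc : Coh.IsCoh ((Coh.push i).obj I) := CohClosedPush.isCoh_push i hIc
    have hGc := CohClosedPush.isCoh_push i hO
    let y := i (genericPoint Z)
    by_cases hyM : y ∈ CohB1.support ((Coh.push i).obj I)
    swap
    · have hz := isZero_of_mono_push i ((Coh.push i).map ι) hyM
      rw [isHilbPoly_unique hP (isHilbPoly_zero hL hz),
        (Groth.L21.Mod.isZero_iff_support_eq_empty _).1 hz, topologicalKrullDim_of_empty rfl]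
      exact ⟨by simp, fun h => absurd h (WithBot.bot_ne_natCast _)⟩
    have hrange : Set.range i = closure {y} := by
      refine Set.Subset.antisymm ?_ (closure_minimal (Set.singleton_subset_iff.2 ⟨_, rfl⟩) (isClosed_range Z i))
      rintro _ ⟨z, rfl⟩
      exact ((genericPoint_specializes z).map i.continuous).mem_closure
    have hsM : CohB1.support ((Coh.push i).obj I) = closure {y} :=
      ((CohClosedPush.support_push_subset i I).trans hrange.le).antisymm
        (closure_minimal (Set.singleton_subset_iff.2 hyM) (CohSupport.isClosed_support _ hMc.2))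
    have hlG := CohClosedPush.len_push_structure i
    have hlM : CohSupport.len y ((Coh.push i).obj I) = 1 := le_antisymm
      (hlG ▸ Devissage.len_of_mono ((Coh.push i).map ι) y)
      (Order.one_le_iff_pos.2 (pos_iff_ne_zero.2 fun h => (CohSupport.len_eq_zero_iff y _).1 h hyM))
    rw [hsM] at hd ⊢
    by_cases he : topologicalKrullDim (closure ({y} : Set X)) = e
    swap
    · refine ⟨?_, fun h => absurd h he⟩
      obtain ⟨n, hn, -⟩ := Groth.L22.SchemeDim.exists_dim_closure_eq_trdeg k X y
      rw [hn] at hd he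
      have hlt : n + 1 ≤ e := by
        have h1 : n ≤ e := by exact_mod_cast hd
        have h2 : n ≠ e := fun h => he (by rw [h])
        omega
      rw [coeff_eq_zero_of_dim_lt hL hMc (by rw [hsM, hn]; exact_mod_cast hlt) hP]
    · obtain ⟨Q, -, hQ⟩ := exists_isHilbPoly (k := k) hL hGc (d := e)
        ((topologicalKrullDim_set_mono ((CohClosedPush.support_push_subset i _).trans hrange.le)).trans hd)
      rw [coeff_eq_of_linked hL hd hMc hGc hsM.le ((CohClosedPush.support_push_subset i _).trans hrange.le)
        hlM hlG hP hQ]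
      have := hG Z i hi hZ (hrange ▸ he) Q hQ
      exact ⟨this.le, fun _ => this⟩

/-- Positivity for integral closed subschemes, by induction on the dimension. -/
theorem gPosAt (hL : CohB1.IsAmple L) : ∀ e : ℕ, GPosAt k L e := by
  haveI : IsLocallyNoetherian X := LocallyOfFiniteType.isLocallyNoetherian (X ↘ Spec (CommRingCat.of k))
  haveI : CompactSpace X := QuasiCompact.compactSpace_of_compactSpace (X ↘ Spec (CommRingCat.of k))
  haveI : IsNoetherian X := {}
  haveI : X.IsSeparated := ⟨by rw [← terminal.comp_from (X ↘ Spec (CommRingCat.of k))]; infer_instance⟩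
  intro e
  induction e with
  | zero =>
    intro Z i hi hZ hdim P hP
    haveI : IsLocallyNoetherian Z := LocallyOfFiniteType.isLocallyNoetherian i
    letI : Z.Over (Spec (CommRingCat.of k)) := ⟨i ≫ (X ↘ Spec (CommRingCat.of k))⟩
    haveI : IsProper (Z ↘ Spec (CommRingCat.of k)) :=
      inferInstanceAs (IsProper (i ≫ (X ↘ Spec (CommRingCat.of k))))
    have hsub : Subsingleton Z := by
      refine ⟨fun a b => i.isClosedEmbedding.injective ?_⟩
      have hle : ∀ c : Z, i c = i (genericPoint Z) := by
        intro c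
        by_contra hne
        have hr : Set.range i = closure {i (genericPoint Z)} := by
          refine Set.Subset.antisymm ?_ (closure_minimal (Set.singleton_subset_iff.2 ⟨_, rfl⟩) (isClosed_range Z i))
          rintro _ ⟨z, rfl⟩
          exact ((genericPoint_specializes z).map i.continuous).mem_closure
        have h1 := topologicalKrullDim_add_one_le (S := closure {i c}) isClosed_closure
          (isIrreducible_singleton.closure (s := {i (genericPoint Z)}))
          (closure_minimal (Set.singleton_subset_iff.2 (hr ▸ ⟨c, rfl⟩)) isClosed_closure) fun he => by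
            have h2 : i c ⤳ i (genericPoint Z) :=
              specializes_iff_mem_closure.2 (he ▸ subset_closure rfl)
            exact hne (h2.antisymm ((genericPoint_specializes c).map i.continuous)).eq
        rw [← hr, hdim] at h1
        have h3 : (0 : WithBot ℕ∞) + 1 ≤ (0 : ℕ) :=
          (add_le_add_left (zero_le_topologicalKrullDim (Set.Nonempty.closure (Set.singleton_nonempty _))) 1).trans h1
        norm_num at h3
      exact (hle a).trans (hle b).symm
    have hP0 : P.natDegree ≤ 0 := by
      obtain ⟨Q, hQ, hQP⟩ := exists_isHilbPoly (k := k) hL.1 (d := 0)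
        (CohClosedPush.isCoh_push i CohClosedPush.isCoh_structure)
        ((topologicalKrullDim_set_mono (CohClosedPush.support_push_subset i _)).trans hdim.le)
      rwa [isHilbPoly_unique hP hQP]
    have h0 := hP 0
    rw [euler_twist_zero, Nat.cast_zero, ← coeff_zero_eq_eval_zero,
      euler_push i _ (CohClosedPush.isCoh_structure (X := Z)).1 rfl] at h0
    rw [← h0]
    exact_mod_cast euler_structure_pos_of_subsingleton (k := k) (X := Z)
  | succ d ih =>
    intro Z i hi hZ hdim P hP
    haveI : IsLocallyNoetherian Z := LocallyOfFiniteType.isLocallyNoetherian i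
    let y := i (genericPoint Z)
    let G := (Coh.push i).obj (Coh.structureModule Z)
    have hG : Coh.IsCoh G := CohClosedPush.isCoh_push i CohClosedPush.isCoh_structure
    have hrange : Set.range i = closure {y} := by
      refine Set.Subset.antisymm ?_ (closure_minimal (Set.singleton_subset_iff.2 ⟨_, rfl⟩) (isClosed_range Z i))
      rintro _ ⟨z, rfl⟩
      exact ((genericPoint_specializes z).map i.continuous).mem_closure
    have hyG : y ∈ CohB1.support G := fun h => by
      have := CohClosedPush.len_push_structure i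
      rw [(CohSupport.len_eq_zero_iff y G).2 fun h' => h' h] at this
      exact zero_ne_one this
    have hsG : CohB1.support G = closure {y} :=
      ((CohClosedPush.support_push_subset i _).trans hrange.le).antisymm
        (closure_minimal (Set.singleton_subset_iff.2 hyG) (CohSupport.isClosed_support _ hG.2))
    obtain ⟨n, s, hys, hsaff⟩ := hL.2.2 y
    have hN : PicF.IsInvertible (CohB1.tensorPow L (n + 1)) := Groth.L18.Ample.isInvertible_tensorPow hL.1 _
    let μ := mulSection G s
    haveI : Mono μ := CohClosedPush.mono_of_injective_generic i μ (bijective_mulSection G s hys).1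
    have hGN := isCoh_tensor hN hG
    haveI : Coh.IsQCoh (CohB1.tensorMod G (CohB1.tensorPow L (n + 1))) := hGN.1
    have hkc := CohKernel.isCoh_kernel_cokernel hG hGN μ
    have hsQ := support_cokernel_mulSection hG hN s
    rw [hsG] at hsQ
    have hQd : topologicalKrullDim (CohB1.support (cokernel μ)) + 1 ≤ ((d + 1 : ℕ) : WithBot ℕ∞) := by
      refine le_trans (topologicalKrullDim_add_one_le (CohSupport.isClosed_support _ hkc.2.2)
        isIrreducible_singleton.closure (hsQ.le.trans Set.sdiff_subset) fun he => ?_)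
        ((hrange ▸ hdim).le)
      have : y ∈ CohB1.support (cokernel μ) := he ▸ subset_closure rfl
      rw [hsQ] at this
      exact this.2 hys
    have hne : (CohB1.support (cokernel μ)).Nonempty := by
      rw [hsQ]
      by_contra h0
      have hall : ∀ z : Z, i z ∈ CohB1.genLocus (CohB1.tensorPow L (n + 1)) s := fun z => by
        by_contra h1
        exact h0 ⟨i z, hrange ▸ ⟨z, rfl⟩, h1⟩
      haveI : IsAffineHom (i ≫ (X ↘ Spec (CommRingCat.of k))) := by
        have hA : IsAffineOpen (⊤ : Z.Opens) := by
          have h1 : i ⁻¹ᵁ CohB1.genLocus (CohB1.tensorPow L (n + 1)) s = ⊤ := top_le_iff.1 fun z _ => hall z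
          exact h1 ▸ hsaff.preimage i
        haveI : IsAffine Z := IsAffine.of_isIso (Scheme.topIso Z).inv (h := hA)
        infer_instance
      haveI := subsingleton_of_proper_affine k Z (i ≫ (X ↘ Spec (CommRingCat.of k)))
      haveI : Subsingleton (Set.range i) := ⟨fun a b => by
        obtain ⟨⟨_, u, rfl⟩, ⟨_, v, rfl⟩⟩ := a, b
        exact Subtype.ext (congrArg i (Subsingleton.elim u v))⟩
      haveI : DiscreteTopology (Set.range i) := inferInstance
      have h0' := topologicalKrullDim_zero_of_discreteTopology (Set.range i)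
      rw [hdim] at h0'
      have : d + 1 ≤ 0 := by exact_mod_cast h0'
      omega
    obtain ⟨z, hz, hmax⟩ := Devissage.exists_maximal_point (CohSupport.isClosed_support _ hkc.2.2) hne
    have hz' := hz
    rw [hsQ] at hz'
    obtain ⟨m, hm, hm'⟩ := dim_closure_eq_add_one k hN s hys hz'.1 hz'.2 fun w hyw hws hwz =>
      hmax w (hsQ.ge ⟨hyw.mem_closure, hws⟩) hwz
    have hmd : m = d := by
      rw [← hrange, hdim] at hm'
      have h1 : d + 1 = m + 1 := by exact_mod_cast hm'
      omega
    subst hmd
    have hQle : topologicalKrullDim (CohB1.support (cokernel μ)) ≤ (m : WithBot ℕ∞) := by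
      generalize topologicalKrullDim (CohB1.support (cokernel μ)) = t at hQd
      induction t using WithBot.recBotCoe with
      | bot => exact bot_le
      | coe t =>
        change ((t + 1 : ℕ∞) : WithBot ℕ∞) ≤ (((m + 1 : ℕ) : ℕ∞) : WithBot ℕ∞) at hQd
        rw [WithBot.coe_le_coe, Nat.cast_add, Nat.cast_one,
          ENat.add_le_add_iff_right (by simp)] at hQd
        exact WithBot.coe_le_coe.2 hQd
    have hQeq : topologicalKrullDim (CohB1.support (cokernel μ)) = (m : WithBot ℕ∞) :=
      le_antisymm hQle (hm ▸ topologicalKrullDim_set_mono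
        (closure_minimal (Set.singleton_subset_iff.2 hz) (CohSupport.isClosed_support _ hkc.2.2)))
    obtain ⟨Q, -, hQ⟩ := exists_isHilbPoly (k := k) hL.1 hkc.2 hQle
    have hpos := (posAt_of_gPosAt hL.1 ih _ hkc.2 hQle Q hQ).2 hQeq
    have hker : IsZero (kernel μ) := isZero_kernel_of_mono μ
    have hmap := isHilbPoly_map hL.1 hG hGN μ hP (isHilbPoly_twist hP (n + 1))
      (isHilbPoly_zero hL.1 hker) hQ
    have hdeg : P.natDegree ≤ m + 1 := by
      obtain ⟨P', hP', hPP'⟩ := exists_isHilbPoly (k := k) hL.1 hG (d := m + 1)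
        ((topologicalKrullDim_set_mono (CohClosedPush.support_push_subset i _)).trans hdim.le)
      rwa [isHilbPoly_unique hP hPP']
    have hQ' : Q = taylor ((n + 1 : ℕ) : ℚ) P - P := by linear_combination hmap
    rw [hQ', coeff_taylor_sub hdeg] at hpos
    have hc : (0 : ℚ) < ((n + 1 : ℕ) : ℚ) * (m + 1) := by positivity
    exact pos_of_mul_pos_right hpos hc.le

/-- The Hilbert polynomial of a coherent module has degree equal to the dimension of its support and
positive top coefficient. -/
theorem posAt (hL : CohB1.IsAmple L) (e : ℕ) : PosAt k L e := posAt_of_gPosAt hL.1 (gPosAt hL e)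

theorem natDegree_eq_and_coeff_pos (hL : CohB1.IsAmple L) {M : X.Modules} (hM : Coh.IsCoh M) {d : ℕ}
    (hd : topologicalKrullDim (CohB1.support M) = d) {P : ℚ[X]}
    (hP : ShStab.IsHilbPoly k X L M P) : P.natDegree = d ∧ 0 < P.coeff d := by
  have hpos := (posAt hL d M hM hd.le P hP).2 hd
  obtain ⟨Q, hQ, hQP⟩ := exists_isHilbPoly (k := k) hL.1 hM hd.le
  rw [← isHilbPoly_unique hP hQP] at hQ
  exact ⟨le_antisymm hQ (le_natDegree_of_ne_zero hpos.ne'), hpos⟩

end Groth.L03.Euler
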