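import Mathlib.Topology.KrullDimension

/-!
# A proper closed subset of an irreducible closed set has smaller dimension
-/

universe u

open Order TopologicalSpace Topology

namespace Groth.L03.Euler

variable {α : Type u} [TopologicalSpace α]

theorem topologicalKrullDim_of_empty {S : Set α} (h : S = ∅) : topologicalKrullDim S = ⊥ := by
  haveI : IsEmpty (IrreducibleCloseds S) :=
    ⟨fun Z => by obtain ⟨⟨x, hx⟩, -⟩ := Z.isIrreducible.nonempty; simp [h] at hx⟩
  exact krullDim_eq_bot

theorem zero_le_topologicalKrullDim {S : Set α} (h : S.Nonempty) : 0 ≤ topologicalKrullDim S := by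
  haveI : Nonempty (IrreducibleCloseds S) :=
    ⟨⟨closure {⟨h.some, h.some_mem⟩}, isIrreducible_singleton.closure, isClosed_closure⟩⟩
  exact krullDim_nonneg

theorem nonempty_irreducibleCloseds {S : Set α} (h : S.Nonempty) : Nonempty (IrreducibleCloseds S) :=
  ⟨⟨closure {⟨h.some, h.some_mem⟩}, isIrreducible_singleton.closure, isClosed_closure⟩⟩

theorem topologicalKrullDim_set_mono {S T : Set α} (h : S ⊆ T) :
    topologicalKrullDim S ≤ topologicalKrullDim T :=
  (IsEmbedding.inclusion h).isInducing.topologicalKrullDim_le

theorem topologicalKrullDim_add_one_le {S T : Set α} (hS : IsClosed S) (hT : IsIrreducible T)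
    (hST : S ⊆ T) (hne : S ≠ T) : topologicalKrullDim S + 1 ≤ topologicalKrullDim T := by
  rcases S.eq_empty_or_nonempty with h | h
  · simp [topologicalKrullDim_of_empty h]
  haveI := nonempty_irreducibleCloseds h
  haveI : PreirreducibleSpace T :=
    Subtype.preirreducibleSpace hT.isPreirreducible
  haveI : IrreducibleSpace T := { toNonempty := hT.nonempty.to_subtype }
  unfold topologicalKrullDim
  rw [← krullDim_WithTop]
  have hι : IsInducing (Set.inclusion hST) := (IsEmbedding.inclusion hST).isInducing
  let U : IrreducibleCloseds T := ⟨Set.univ, IrreducibleSpace.isIrreducible_univ T, isClosed_univ⟩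
  let f : WithTop (IrreducibleCloseds S) → IrreducibleCloseds T := fun Z =>
    Z.elim U (IrreducibleCloseds.map (Set.inclusion hST) hι.continuous)
  refine krullDim_le_of_strictMono f fun a b hab => ?_
  induction a using WithTop.recTopCoe with
  | top => exact absurd hab not_top_lt
  | coe Z =>
    induction b using WithTop.recTopCoe with
    | top =>
      refine lt_of_le_of_ne (fun x _ => trivial) fun he => hne (Set.Subset.antisymm hST fun x hx => ?_)
      have h1 : (⟨x, hx⟩ : T) ∈ closure (Set.inclusion hST '' (Z : Set S)) := by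
        rw [← IrreducibleCloseds.coe_map _ hι.continuous]
        change (⟨x, hx⟩ : T) ∈ (f (Z : WithTop (IrreducibleCloseds S)) : Set T)
        rw [he]
        trivial
      exact closure_minimal (t := Subtype.val ⁻¹' S) (by rintro _ ⟨z, -, rfl⟩; exact z.2)
        (hS.preimage continuous_subtype_val) h1
    | coe W => exact IrreducibleCloseds.map_strictMono_of_isInducing hι (WithTop.coe_lt_coe.1 hab)

/-- A closed set of dimension at least `e` in a sober space contains a point whose closure has
dimension at least `e`. -/
theorem exists_point_dim_closure_ge [QuasiSober α] {T : Set α} (hT : IsClosed T) {e : ℕ}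
    (h : (e : WithBot ℕ∞) ≤ topologicalKrullDim T) :
    ∃ y ∈ T, (e : WithBot ℕ∞) ≤ topologicalKrullDim (closure ({y} : Set α)) := by
  obtain ⟨l, hl⟩ := le_krullDim_iff.1 h
  have hirr : ∀ i, IsIrreducible (Subtype.val '' (l i : Set T)) := fun i =>
    (l i).isIrreducible.image _ continuous_subtype_val.continuousOn
  let z : Fin (l.length + 1) → α := fun i => (hirr i).genericPoint
  have hz : ∀ i, closure ({z i} : Set α) = Subtype.val '' (l i : Set T) := fun i =>
    (hirr i).closure_genericPoint (hT.isClosedEmbedding_subtypeVal.isClosedMap _ (l i).isClosed)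
  have hzT : ∀ i, z i ∈ T := fun i => by
    have : z i ∈ Subtype.val '' (l i : Set T) := hz i ▸ subset_closure rfl
    obtain ⟨w, -, hw⟩ := this
    exact hw ▸ w.2
  have hmono : ∀ i j, i ≤ j → z i ∈ closure ({z j} : Set α) := fun i j hij => by
    rw [hz]
    exact Set.image_mono (SetLike.coe_subset_coe.2 (l.monotone hij)) (hz i ▸ subset_closure rfl)
  refine ⟨z (Fin.last _), hzT _, le_krullDim_iff.2 ?_⟩
  let w : Fin (l.length + 1) → closure ({z (Fin.last _)} : Set α) := fun i =>
    ⟨z i, hmono i _ (Fin.le_last i)⟩
  refine ⟨⟨l.length, fun i => ⟨closure {w i}, isIrreducible_singleton.closure, isClosed_closure⟩,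
    fun i => ?_⟩, hl⟩
  have h1 : z i.castSucc ∈ closure ({z i.succ} : Set α) := hmono _ _ (Fin.castSucc_le_succ i)
  refine lt_of_le_not_ge (closure_minimal ?_ isClosed_closure) fun h2 => ?_
  · rintro _ rfl
    exact closure_subtype.2 (by rwa [Set.image_singleton])
  · have h3 : w i.succ ∈ closure ({w i.castSucc} : Set (closure ({z (Fin.last _)} : Set α))) :=
      h2 (subset_closure rfl)
    rw [closure_subtype, Set.image_singleton] at h3
    have h4 : Subtype.val '' (l i.succ : Set T) ⊆ Subtype.val '' (l i.castSucc : Set T) := by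
      rw [← hz, ← hz]
      exact closure_minimal (Set.singleton_subset_iff.2 h3) isClosed_closure
    exact (lt_iff_le_not_ge.1 (l.step i)).2
      (SetLike.coe_subset_coe.1 ((Set.image_subset_image_iff Subtype.val_injective).1 h4))

end Groth.L03.Euler
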