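import Mathlib.Algebra.MvPolynomial.Degrees
import Mathlib.Algebra.MvPolynomial.Eval
import Mathlib.Algebra.Polynomial.Eval.Degree
import Mathlib.NumberTheory.Bernoulli
import Mathlib.LinearAlgebra.Span.Defs

/-!
# Polynomial functions on `ℕ^r` of bounded degree and finite differences
-/

namespace Groth.L03.Euler

open Function

variable {r e e' : ℕ}

/-- The monomial function with exponents `a`. -/
def monFun (a : Fin r → ℕ) : (Fin r → ℕ) → ℚ := fun n => ∏ i, (n i : ℚ) ^ a i

/-- Functions on `ℕ^r` given by polynomials of degree `< e`. -/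
def polyFun (r e : ℕ) : Submodule ℚ ((Fin r → ℕ) → ℚ) :=
  Submodule.span ℚ (monFun '' {a | ∑ i, a i < e})

theorem monFun_mem {a : Fin r → ℕ} (h : ∑ i, a i < e) : monFun a ∈ polyFun r e :=
  Submodule.subset_span ⟨a, h, rfl⟩

theorem polyFun_mono (h : e ≤ e') : polyFun r e ≤ polyFun r e' :=
  Submodule.span_mono (Set.image_mono fun _ ha => lt_of_lt_of_le ha h)

theorem polyFun_zero : polyFun r 0 = ⊥ := by
  simp [polyFun]

theorem const_mem (c : ℚ) : (fun _ => c) ∈ polyFun r (e + 1) := by
  have h : monFun (fun _ : Fin r => 0) ∈ polyFun r (e + 1) := monFun_mem (by simp)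
  convert (polyFun r (e + 1)).smul_mem c h using 1
  funext n
  simp [monFun]

theorem monFun_update (a : Fin r → ℕ) (i : Fin r) (n : Fin r → ℕ) (v : ℕ) :
    monFun a (update n i v) = (v : ℚ) ^ a i * monFun (update a i 0) n := by
  simp only [monFun]
  rw [← Finset.mul_prod_erase Finset.univ _ (Finset.mem_univ i),
    ← Finset.mul_prod_erase Finset.univ (fun x => (n x : ℚ) ^ update a i 0 x) (Finset.mem_univ i)]
  rw [update_self, update_self, pow_zero, one_mul]
  congr 1
  refine Finset.prod_congr rfl fun j hj => ?_
  rw [update_of_ne (Finset.ne_of_mem_erase hj), update_of_ne (Finset.ne_of_mem_erase hj)]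

theorem sum_update_le (a : Fin r → ℕ) (i : Fin r) {v : ℕ} :
    ∑ j, update a i v j + a i = ∑ j, a j + v := by
  rw [Finset.sum_update_of_mem (Finset.mem_univ i),
    ← Finset.add_sum_erase Finset.univ a (Finset.mem_univ i), Finset.sdiff_singleton_eq_erase]
  omega

/-- Setting one variable to zero. -/
theorem comp_update_zero_mem {f : (Fin r → ℕ) → ℚ} (hf : f ∈ polyFun r e) (i : Fin r) :
    (fun n => f (update n i 0)) ∈ polyFun r e := by
  induction hf using Submodule.span_induction with
  | mem f hf =>
    obtain ⟨a, ha, rfl⟩ := hf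
    have hlt : ∑ j, update a i 0 j < e := by
      have := sum_update_le a i (v := 0)
      simp only [Set.mem_ofPred_eq] at ha
      omega
    convert (polyFun r e).smul_mem ((0 : ℚ) ^ a i) (monFun_mem hlt) using 1
    funext n
    simp [monFun_update]
  | zero => exact (polyFun r e).zero_mem
  | add f g _ _ hf hg => exact (polyFun r e).add_mem hf hg
  | smul c f _ hf => exact (polyFun r e).smul_mem c hf

/-- Summation in one variable raises the degree by at most one. -/
theorem sum_range_mem {g : (Fin r → ℕ) → ℚ} (hg : g ∈ polyFun r e) (i : Fin r) :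
    (fun n => ∑ j ∈ Finset.range (n i), g (update n i j)) ∈ polyFun r (e + 1) := by
  induction hg using Submodule.span_induction with
  | mem g hg =>
    obtain ⟨a, ha, rfl⟩ := hg
    simp only [Set.mem_ofPred_eq] at ha
    have key : (fun n => ∑ j ∈ Finset.range (n i), monFun a (update n i j)) =
        ∑ t ∈ Finset.range (a i + 1),
          (bernoulli t * ((a i + 1).choose t) / (a i + 1) : ℚ) • monFun (update a i (a i + 1 - t)) := by
      funext n
      simp only [monFun_update, Finset.sum_apply, Pi.smul_apply, smul_eq_mul]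
      rw [← Finset.sum_mul, sum_range_pow, Finset.sum_mul]
      refine Finset.sum_congr rfl fun t _ => ?_
      have h := monFun_update (update a i (a i + 1 - t)) i n (n i)
      rw [update_eq_self, update_self, update_idem] at h
      rw [h]
      ring
    rw [key]
    refine Submodule.sum_mem _ fun t _ => Submodule.smul_mem _ _ (monFun_mem ?_)
    have := sum_update_le a i (v := a i + 1 - t)
    omega
  | zero =>
    convert (polyFun r (e + 1)).zero_mem using 1
    funext n
    simp
  | add f g _ _ hf hg =>
    convert (polyFun r (e + 1)).add_mem hf hg using 1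
    funext n
    simp [Finset.sum_add_distrib]
  | smul c f _ hf =>
    convert (polyFun r (e + 1)).smul_mem c hf using 1
    funext n
    simp [Finset.mul_sum]

/-- A function with polynomial differences of degree `< e` is polynomial of degree `< e + 1`. -/
theorem mem_polyFun_of_diff {f : (Fin r → ℕ) → ℚ}
    (h : ∀ i, (fun n => f (update n i (n i + 1)) - f n) ∈ polyFun r e) :
    f ∈ polyFun r (e + 1) := by
  classical
  suffices ∀ s : Finset (Fin r),
      f - (fun n => f (fun j => if j ∈ s then 0 else n j)) ∈ polyFun r (e + 1) by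
    have h₁ := this Finset.univ
    have h₂ : (fun n : Fin r → ℕ => f (fun j => if j ∈ Finset.univ then 0 else n j)) ∈
        polyFun r (e + 1) := by
      simpa using const_mem (r := r) (e := e) (f fun _ => 0)
    simpa using (polyFun r (e + 1)).add_mem h₁ h₂
  intro s
  induction s using Finset.induction_on with
  | empty => simp
  | insert i s hi ih =>
    have h₁ : (fun n => f n - f (update n i 0)) ∈ polyFun r (e + 1) := by
      convert sum_range_mem (h i) i using 1
      funext n
      have := Finset.sum_range_sub (fun j => f (update n i j)) (n i)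
      simp only [update_eq_self] at this
      simp only [update_self, update_idem]
      exact this.symm
    have h₂ := comp_update_zero_mem ih i
    convert (polyFun r (e + 1)).add_mem h₁ h₂ using 1
    funext n
    simp only [Pi.sub_apply, Pi.add_apply]
    have : (fun j => if j ∈ s then 0 else update n i 0 j) =
        fun j => if j ∈ insert i s then 0 else n j := by
      funext j
      rcases eq_or_ne j i with rfl | hj
      · simp [hi]
      · simp [hj]
    rw [this]
    ring

/-- Extract the polynomial. -/
theorem exists_mvPolynomial {d : ℕ} {f : (Fin r → ℕ) → ℚ} (hf : f ∈ polyFun r (d + 1)) :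
    ∃ P : MvPolynomial (Fin r) ℚ, P.totalDegree ≤ d ∧
      ∀ n, f n = MvPolynomial.eval (fun i => (n i : ℚ)) P := by
  induction hf using Submodule.span_induction with
  | mem f hf =>
    obtain ⟨a, ha, rfl⟩ := hf
    simp only [Set.mem_ofPred_eq] at ha
    refine ⟨∏ i, MvPolynomial.X i ^ a i, ?_, fun n => by simp [monFun]⟩
    refine (MvPolynomial.totalDegree_finsetProd _ _).trans ?_
    refine le_trans (Finset.sum_le_sum fun i _ => ?_) (Nat.lt_succ_iff.1 ha)
    exact (MvPolynomial.totalDegree_pow _ _).trans (by simp)
  | zero => exact ⟨0, by simp, fun n => by simp⟩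
  | add f g _ _ hf hg =>
    obtain ⟨P, hP, hP'⟩ := hf
    obtain ⟨Q, hQ, hQ'⟩ := hg
    exact ⟨P + Q, (MvPolynomial.totalDegree_add _ _).trans (max_le hP hQ),
      fun n => by simp [hP', hQ']⟩
  | smul c f _ hf =>
    obtain ⟨P, hP, hP'⟩ := hf
    exact ⟨c • P, (MvPolynomial.totalDegree_smul_le _ _).trans hP, fun n => by simp [hP']⟩

/-- Extract the polynomial in one variable. -/
theorem exists_polynomial {d : ℕ} {f : (Fin 1 → ℕ) → ℚ} (hf : f ∈ polyFun 1 (d + 1)) :
    ∃ P : Polynomial ℚ, P.natDegree ≤ d ∧ ∀ m : ℕ, f (fun _ => m) = P.eval (m : ℚ) := by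
  induction hf using Submodule.span_induction with
  | mem f hf =>
    obtain ⟨a, ha, rfl⟩ := hf
    simp only [Set.mem_ofPred_eq, Fin.sum_univ_one] at ha
    exact ⟨Polynomial.X ^ a 0, (Polynomial.natDegree_X_pow_le _).trans (by omega),
      fun n => by simp [monFun]⟩
  | zero => exact ⟨0, by simp, fun n => by simp⟩
  | add f g _ _ hf hg =>
    obtain ⟨P, hP, hP'⟩ := hf
    obtain ⟨Q, hQ, hQ'⟩ := hg
    exact ⟨P + Q, (Polynomial.natDegree_add_le _ _).trans (max_le hP hQ),
      fun n => by simp [hP', hQ']⟩
  | smul c f _ hf =>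
    obtain ⟨P, hP, hP'⟩ := hf
    exact ⟨c • P, (Polynomial.natDegree_smul_le _ _).trans hP, fun n => by simp [hP']⟩

end Groth.L03.Euler
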