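import Groth.Agent.L03.Euler.Basic
import Groth.Agent.L03.Euler.PolyFun
import Groth.Agent.L03.Euler.Twist
import Groth.Agent.L03.Euler.Dim
import Groth.Agent.L21.Mod.Stalks

/-!
# The Euler characteristic of twists is a polynomial of degree at most the dimension of the support
-/

universe u

open CategoryTheory CategoryTheory.Limits AlgebraicGeometry TopologicalSpace

namespace Groth.L03.Euler

open Groth.L16

section Link

variable {X : Scheme.{u}} [IsNoetherian X]

/-- Two coherent modules of length one at `y` map to a common coherent module by maps which are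
isomorphisms at `y`. -/
theorem exists_linked {T : Set X} {y : X} {A B : X.Modules} (hA : Coh.IsCoh A) (hB : Coh.IsCoh B)
    (hAT : CohB1.support A ⊆ T) (hBT : CohB1.support B ⊆ T) (hlA : CohSupport.len y A = 1)
    (hlB : CohSupport.len y B = 1) :
    ∃ (H : X.Modules) (a : A ⟶ H) (b : B ⟶ H), Coh.IsCoh H ∧ CohB1.support H ⊆ T ∧
      CohSupport.len y (kernel a) = 0 ∧ CohSupport.len y (cokernel a) = 0 ∧
      CohSupport.len y (kernel b) = 0 ∧ CohSupport.len y (cokernel b) = 0 := by
  let N : ModuleCat.{u} (X.presheaf.stalk y) := (Groth.L00.Stk.F X y).obj A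
  have hN : IsSimpleModule (X.presheaf.stalk y) N := Module.length_eq_one_iff.1 hlA
  haveI : Coh.IsQCoh (Groth.L00.Sky.sky y N) :=
    CohSupport.isQCoh_sky y N (Devissage.smul_eq_zero_of_simple N hN)
  obtain ⟨α, hα⟩ := Devissage.exists_quotient_simple ((Groth.L00.Stk.F X y).obj B) N
    (show CohSupport.len y B ≠ ⊤ from hlB ▸ by simp) (show CohSupport.len y B ≠ 0 from hlB ▸ by simp) hN
  have h1 : (𝟙 N : N ⟶ N) ≠ 0 := by
    intro h
    haveI : Nontrivial N := IsSimpleModule.nontrivial (X.presheaf.stalk y) N
    obtain ⟨a, ha⟩ := exists_ne (0 : N)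
    exact ha congr($(h) a)
  let φ : A ⟶ Groth.L00.Sky.sky y N := Groth.L00.Sky.toHom A N (𝟙 N)
  let ψ : B ⟶ Groth.L00.Sky.sky y N := Groth.L00.Sky.toHom B N α
  haveI : HasBinaryBiproduct A B := HasBinaryBiproducts.has_binary_biproduct A B
  let s : A ⊞ B ⟶ Groth.L00.Sky.sky y N := biprod.desc φ ψ
  have hAB : Coh.IsCoh (A ⊞ B) := Devissage.isCoh_biprod hA hB
  have hsAB : CohB1.support (A ⊞ B) ⊆ T := by
    have hS : (ShortComplex.mk (biprod.inl : A ⟶ A ⊞ B) biprod.snd biprod.inl_snd).ShortExact :=
      (ShortComplex.Splitting.mk biprod.fst biprod.inr (by simp) (by simp) (by simp [biprod.total])).shortExact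
    rw [Groth.L21.Mod.support_of_shortExact hS]
    exact Set.union_subset hAT hBT
  have hH : Coh.IsCoh (Abelian.image s) := CohSupport.isCoh_image hAB s
  haveI : Coh.IsQCoh (Abelian.image s) := hH.1
  have hlH : CohSupport.len y (Abelian.image s) ≤ 1 := by
    have := Devissage.len_of_mono (Abelian.image.ι s) y
    rwa [Devissage.len_sky, show Module.length (X.presheaf.stalk y) N = 1 from hlA] at this
  have key : ∀ {C : X.Modules}, Coh.IsCoh C → ∀ (j : C ⟶ A ⊞ B), CohSupport.len y C = 1 →
      (∃ v, (Groth.L00.Stk.F X y).map (j ≫ s) v ≠ 0) →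
      CohSupport.len y (kernel (j ≫ Abelian.factorThruImage s)) = 0 ∧
        CohSupport.len y (cokernel (j ≫ Abelian.factorThruImage s)) = 0 := by
    intro C hC j hlC hne
    let a : C ⟶ Abelian.image s := j ≫ Abelian.factorThruImage s
    have hne' : 1 ≤ CohSupport.len y (Abelian.image a) := Devissage.len_image_pos a y (by
      obtain ⟨v, hv⟩ := hne
      refine ⟨v, fun h => hv ?_⟩
      rw [show j ≫ s = a ≫ Abelian.image.ι s by simp [a], Functor.map_comp, ModuleCat.comp_apply, h]
      exact map_zero _)
    have e₁ := CohSupport.len_add (Devissage.shortExact_kernel_image a) y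
    have e₂ := CohSupport.len_add (Devissage.shortExact_image_cokernel a) y
    dsimp only at e₁ e₂
    have hI : CohSupport.len y (Abelian.image a) = 1 :=
      le_antisymm ((le_self_add.trans e₂.ge).trans hlH) hne'
    constructor
    · rw [hlC, hI] at e₁
      have : CohSupport.len y (kernel a) + 1 ≤ 0 + 1 := by rw [zero_add]; exact e₁.ge
      exact nonpos_iff_eq_zero.1 ((ENat.add_le_add_iff_right (by simp)).1 this)
    · rw [hI] at e₂
      have : 1 + CohSupport.len y (cokernel a) ≤ 1 + 0 := by rw [add_zero, ← e₂]; exact hlH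
      exact nonpos_iff_eq_zero.1 ((ENat.add_le_add_iff_left (by simp)).1 this)
  obtain ⟨v, hv⟩ := Devissage.exists_map_sky y A N (𝟙 N) h1
  obtain ⟨w, hw⟩ := Devissage.exists_map_sky y B N α hα
  obtain ⟨a₁, a₂⟩ := key hA biprod.inl hlA ⟨v, by rw [biprod.inl_desc]; exact hv⟩
  obtain ⟨b₁, b₂⟩ := key hB biprod.inr hlB ⟨w, by rw [biprod.inr_desc]; exact hw⟩
  exact ⟨Abelian.image s, _, _, hH,
    (Groth.L21.Mod.support_epi (Abelian.factorThruImage s)).trans hsAB, a₁, a₂, b₁, b₂⟩

end Link

variable (k : Type u) [Field k] {X : Scheme.{u}} [X.Over (Spec (CommRingCat.of k))]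
  {r : ℕ} (L : Fin r → X.Modules)

/-- `n ↦ χ(X, M ⊗ L^n)` -/
noncomputable def twEuler (M : X.Modules) : (Fin r → ℕ) → ℚ := fun n =>
  ((Curv2.euler k X (CohB1.tensorMod M (Curv2.tensorPows (Coh.structureModule X) r L n)) : ℤ) : ℚ)

theorem twEuler_iso {M M' : X.Modules} (e : M ≅ M') : twEuler k L M = twEuler k L M' :=
  funext fun _ => congrArg (Int.cast : ℤ → ℚ) (euler_iso (Groth.L00.Tensor.tensorIso e (Iso.refl _)))

theorem euler_tensorPows_eq (F : X.Modules) (n : Fin r → ℕ) :
    (Curv2.euler k X (Curv2.tensorPows F r L n) : ℚ) = twEuler k L F n := by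
  obtain ⟨e⟩ := nonempty_tensorPows_iso F L n
  rw [euler_iso e]; rfl

theorem twEuler_shift (M : X.Modules) (n : Fin r → ℕ) (i : Fin r) :
    twEuler k L M (Function.update n i (n i + 1)) = twEuler k L (CohB1.tensorMod M (L i)) n := by
  obtain ⟨e⟩ := nonempty_tensorPows_succ L n i
  refine congrArg (Int.cast : ℤ → ℚ) (euler_iso (Groth.L00.Tensor.tensorIso (Iso.refl M) e ≪≫
    Groth.L00.Tensor.tensorIso (Iso.refl M) (Groth.L00.Tensor.tensorComm _ _) ≪≫
    (Groth.L00.Tensor.tensorAssoc _ _ _).symm))

variable {L} (hL : ∀ i, PicF.IsInvertible (L i))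

include hL in
theorem twEuler_of_isZero {M : X.Modules} (hM : IsZero M) : twEuler k L M = 0 := by
  funext n
  have : IsZero (CohB1.tensorMod M (Curv2.tensorPows (Coh.structureModule X) r L n)) := by
    rw [Groth.L21.Mod.isZero_iff_support_eq_empty, support_tensor (isInvertible_tensorPows hL n),
      ← Groth.L21.Mod.isZero_iff_support_eq_empty]
    exact hM
  simp [twEuler, euler_of_isZero this]

variable [IsProper (X ↘ Spec (CommRingCat.of k))]

include hL in
theorem twEuler_add {S : ShortComplex X.Modules} (hS : S.ShortExact)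
    (h₁ : Coh.IsCoh S.X₁) (h₂ : Coh.IsCoh S.X₂) (h₃ : Coh.IsCoh S.X₃) :
    twEuler k L S.X₂ = twEuler k L S.X₁ + twEuler k L S.X₃ := by
  haveI : IsLocallyNoetherian X := LocallyOfFiniteType.isLocallyNoetherian (X ↘ Spec (CommRingCat.of k))
  funext n
  have hN := isInvertible_tensorPows hL n
  have := euler_add (k := k) (shortExact_tensor hN hS) (isCoh_tensor hN h₁) (isCoh_tensor hN h₂)
    (isCoh_tensor hN h₃)
  simp only [twEuler, Pi.add_apply]
  exact_mod_cast this

include hL in
/-- Twisted Euler characteristics along a map differ by those of kernel and cokernel. -/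
theorem twEuler_map {A B : X.Modules} (hA : Coh.IsCoh A) (hB : Coh.IsCoh B) (a : A ⟶ B) :
    twEuler k L A - twEuler k L B = twEuler k L (kernel a) - twEuler k L (cokernel a) := by
  haveI : IsLocallyNoetherian X := LocallyOfFiniteType.isLocallyNoetherian (X ↘ Spec (CommRingCat.of k))
  haveI : CompactSpace X := QuasiCompact.compactSpace_of_compactSpace (X ↘ Spec (CommRingCat.of k))
  haveI : IsNoetherian X := {}
  haveI : Coh.IsQCoh B := hB.1
  have hkc := CohKernel.isCoh_kernel_cokernel hA hB a
  have hI := CohSupport.isCoh_image hA a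
  have e₁ := twEuler_add k hL (Devissage.shortExact_kernel_image a) hkc.1 hA hI
  have e₂ := twEuler_add k hL (Devissage.shortExact_image_cokernel a) hI hB hkc.2
  dsimp only at e₁ e₂
  rw [e₁, e₂]
  abel

include hL in
/-- Polynomiality, with the degree bounded by the dimension of the support. -/
theorem twEuler_mem : ∀ (d : ℕ) (F : X.Modules), Coh.IsCoh F →
    topologicalKrullDim (CohB1.support F) + 1 ≤ d → twEuler k L F ∈ polyFun r d := by
  haveI : IsLocallyNoetherian X := LocallyOfFiniteType.isLocallyNoetherian (X ↘ Spec (CommRingCat.of k))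
  haveI : CompactSpace X := QuasiCompact.compactSpace_of_compactSpace (X ↘ Spec (CommRingCat.of k))
  haveI : IsNoetherian X := {}
  intro d
  induction d with
  | zero =>
    intro F _ hdim
    rcases (CohB1.support F).eq_empty_or_nonempty with h | h
    · rw [twEuler_of_isZero k hL ((Groth.L21.Mod.isZero_iff_support_eq_empty F).2 h)]
      exact Submodule.zero_mem _
    · exfalso
      have h0 : (0 : WithBot ℕ∞) + 1 ≤ (0 : ℕ) :=
        (add_le_add_left (zero_le_topologicalKrullDim h) 1).trans hdim
      norm_num at h0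
  | succ d ih =>
    intro F hF hdim
    have hdim' : topologicalKrullDim (CohB1.support F) ≤ d := by
      generalize topologicalKrullDim (CohB1.support F) = t at hdim
      induction t using WithBot.recBotCoe with
      | bot => exact bot_le
      | coe t =>
        change ((t + 1 : ℕ∞) : WithBot ℕ∞) ≤ (((d + 1 : ℕ) : ℕ∞) : WithBot ℕ∞) at hdim
        rw [WithBot.coe_le_coe, Nat.cast_add, Nat.cast_one,
          ENat.add_le_add_iff_right (by simp)] at hdim
        exact WithBot.coe_le_coe.2 hdim
    refine Devissage.devissage (fun M => twEuler k L M ∈ polyFun r (d + 1))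
      (CohSupport.isClosed_support F hF.2) (fun M M' ⟨e⟩ h => twEuler_iso k L e ▸ h)
      (fun M hM => by rw [twEuler_of_isZero k hL hM]; exact Submodule.zero_mem _) ?_ ?_ hF subset_rfl
    · intro S hS h₁ h₂ h₃ _
      have e := twEuler_add k hL hS h₁ h₂ h₃
      refine ⟨fun a b => ?_, fun a c => ?_, fun b c => ?_⟩ <;> beta_reduce at *
      · rw [show twEuler k L S.X₃ = twEuler k L S.X₂ - twEuler k L S.X₁ by rw [e]; abel]
        exact Submodule.sub_mem _ b a
      · rw [e]; exact Submodule.add_mem _ a c
      · rw [show twEuler k L S.X₁ = twEuler k L S.X₂ - twEuler k L S.X₃ by rw [e]; abel]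
        exact Submodule.sub_mem _ b c
    · intro y hy
      obtain ⟨Z, i, hi, hZ, hgen, hrange⟩ := CohClosedPush.exists_integral y
      haveI : IsLocallyNoetherian Z := LocallyOfFiniteType.isLocallyNoetherian i
      let G := (Coh.push i).obj (Coh.structureModule Z)
      have hG : Coh.IsCoh G := CohClosedPush.isCoh_push i CohClosedPush.isCoh_structure
      have hlG : CohSupport.len y G = 1 := hgen ▸ CohClosedPush.len_push_structure i
      have hsG : CohB1.support G ⊆ closure {y} :=
        (CohClosedPush.support_push_subset i _).trans hrange.le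
      refine ⟨G, hG, ?_, hsG, hlG⟩
      have small : ∀ K : X.Modules, Coh.IsCoh K → CohB1.support K ⊆ closure {y} →
          CohSupport.len y K = 0 → twEuler k L K ∈ polyFun r d := by
        intro K hK hsK hK0
        refine ih K hK (le_trans (topologicalKrullDim_add_one_le (CohSupport.isClosed_support K hK.2)
          isIrreducible_singleton.closure hsK fun he => ?_) ((topologicalKrullDim_set_mono
            (closure_minimal (Set.singleton_subset_iff.2 hy)
              (CohSupport.isClosed_support F hF.2))).trans hdim'))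
        exact (CohSupport.len_eq_zero_iff y K).1 hK0 (he ▸ subset_closure rfl)
      refine mem_polyFun_of_diff fun j => ?_
      obtain ⟨H, a, b, hH, hsH, ha₁, ha₂, hb₁, hb₂⟩ := exists_linked (isCoh_tensor (hL j) hG) hG
        ((support_tensor (hL j) G).le.trans hsG) hsG (by rw [len_tensor (hL j), hlG]) hlG
      have hGj : Coh.IsCoh (CohB1.tensorMod G (L j)) := isCoh_tensor (hL j) hG
      haveI : Coh.IsQCoh H := hH.1
      have hka := CohKernel.isCoh_kernel_cokernel hGj hH a
      have hkb := CohKernel.isCoh_kernel_cokernel hG hH b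
      have key : (fun n => twEuler k L G (Function.update n j (n j + 1)) - twEuler k L G n) =
          (twEuler k L (kernel a) - twEuler k L (cokernel a)) -
            (twEuler k L (kernel b) - twEuler k L (cokernel b)) := by
        rw [← twEuler_map k hL hGj hH a, ← twEuler_map k hL hG hH b]
        funext n
        simp only [twEuler_shift, Pi.sub_apply]
        ring
      rw [key]
      refine Submodule.sub_mem _ (Submodule.sub_mem _ (small _ hka.1 ?_ ha₁) (small _ hka.2 ?_ ha₂))
        (Submodule.sub_mem _ (small _ hkb.1 ?_ hb₁) (small _ hkb.2 ?_ hb₂))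
      · exact (Groth.L21.Mod.support_mono (kernel.ι a)).trans ((support_tensor (hL j) G).le.trans hsG)
      · exact (Groth.L21.Mod.support_epi (cokernel.π a)).trans hsH
      · exact (Groth.L21.Mod.support_mono (kernel.ι b)).trans hsG
      · exact (Groth.L21.Mod.support_epi (cokernel.π b)).trans hsH

include hL in
theorem twEuler_mem' {F : X.Modules} (hF : Coh.IsCoh F) {d : ℕ}
    (h : topologicalKrullDim (CohB1.support F) ≤ d) : twEuler k L F ∈ polyFun r (d + 1) :=
  twEuler_mem k hL (d + 1) F hF (by exact_mod_cast add_le_add_left h 1)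

include hL in
/-- `χ(F ⊗ L^n)` is a polynomial in `n` of total degree at most `dim Supp F`. -/
theorem exists_polynomial_tensorPows {F : X.Modules} (hF : Coh.IsCoh F) {d : ℕ}
    (h : topologicalKrullDim (CohB1.support F) ≤ d) :
    ∃ P : MvPolynomial (Fin r) ℚ, P.totalDegree ≤ d ∧ ∀ n : Fin r → ℕ,
      (Curv2.euler k X (Curv2.tensorPows F r L n) : ℚ) = MvPolynomial.eval (fun i => (n i : ℚ)) P := by
  obtain ⟨P, hP, hP'⟩ := exists_mvPolynomial (twEuler_mem' k hL hF h)
  exact ⟨P, hP, fun n => (euler_tensorPows_eq k L F n).trans (hP' n)⟩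

end Groth.L03.Euler
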